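import Cfsg.Agent.UGT.Res.W1.Defs
import Cfsg.Agent.UGT.A9.Marker
import Cfsg.Agent.UGT.U2.TypeOf

/-!
# Step 1: the 2-component `N` of `M` and the claim (*)

* `three_swap`: a marker `J ≤ C(R)`, `R` a four-group, is not a subgroup of a diagonal for all `r ∈ R#`.
* `exists_N`: the 2-component `N` of `M` containing `J`.
* `NSt.star`: if no `r ∈ R₀#` fixes `N` then no involution of `M` fixes `N`.
-/

set_option autoImplicit false
set_option linter.unusedSectionVars false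

open Cfsg Subgroup
open Cfsg.Agent.SignalizersComponents Cfsg.Agent.Lib
open Cfsg.Agent.SignalizersComponents.IntrinsicBasic
open Cfsg.Agent.SignalizersComponents.PLayerAut
open Cfsg.Agent.Intrinsic.Basic Cfsg.Agent.Intrinsic.Cen Cfsg.Agent.Intrinsic.Diag
open Cfsg.Agent.McLLyComp.Act
open Cfsg.Agent.UGT.Triple Cfsg.Agent.UGT.LemG Cfsg.Agent.UGT.PumpGen Cfsg.Agent.UGT.TriBase Cfsg.Agent.UGT.Iface
open Cfsg.Agent.UGT.A9.Marker
open Cfsg.Agent.UGT.Res.Base Cfsg.Agent.UGT.Res.Abel Cfsg.Agent.UGT.Res.CoreFree Cfsg.Agent.UGT.Res.KFacts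
open scoped commutatorElement

namespace Cfsg.Agent.UGT.Res.W1

section gen

variable {G : Type*} [Group G] [Finite G]

/-- three commuting involutions with product 1 cannot all be swaps of the pairs marked by `J` -/
theorem three_swap {X J : Subgroup G} (hJ : Mkr J) {r s : G} (hr : r * r = 1) (hs : s * s = 1)
    (hrs : r * s = s * r) (hrX : r ∈ X) (hsX : s ∈ X) {K K' K'' : Subgroup G}
    (h1 : IsComp X K) (h2 : IsComp X K') (h3 : IsComp X K'')
    (n1 : cj r K ≠ K) (n2 : cj s K' ≠ K') (n3 : cj (r * s) K'' ≠ K'')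
    (d1 : J ≤ diag X K r) (d2 : J ≤ diag X K' s) (d3 : J ≤ diag X K'' (r * s)) : False := by
  have hrs2 : r * s * (r * s) = 1 := by
    calc r * s * (r * s) = r * (s * r) * s := by group
      _ = r * (r * s) * s := by rw [hrs]
      _ = (r * r) * (s * s) := by group
      _ = 1 := by rw [hr, hs, one_mul]
  have hrsX : r * s ∈ X := mul_mem hrX hsX
  have m2 := mark_diag hJ h2 hsX hs n2 d2
  have m2' := mark_diag_cj hJ h2 hsX hs n2 d2
  have m3 := mark_diag hJ h3 hrsX hrs2 n3 d3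
  have e2 := eq_or_of_diag h1 hrX hr n1 d1 m2
  have e2' := eq_or_of_diag h1 hrX hr n1 d1 m2'
  have e3 := eq_or_of_diag h1 hrX hr n1 d1 m3
  -- `s` maps `K` to `K^r`
  have hs1 : cj s (cj s K) = K := by rw [← cj_mul, hs, cj_one]
  have hrr : cj r (cj r K) = K := by rw [← cj_mul, hr, cj_one]
  have hsK : cj s K = cj r K := by
    rcases e2 with rfl | rfl
    · rcases e2' with h | h
      · exact absurd h n2
      · exact h
    · rcases e2' with h | h
      · -- cj s (cj r K) = K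
        have h4 : cj s (cj s (cj r K)) = cj s K := by rw [h]
        rw [← cj_mul, hs, cj_one] at h4
        exact h4.symm
      · exact absurd h n2
  have hK : cj (r * s) K = K := by rw [cj_mul, hsK, hrr]
  apply n3
  rcases e3 with rfl | rfl
  · exact hK
  · rw [← cj_mul, show r * s * r = r * (r * s) by rw [mul_assoc, hrs], cj_mul, hK]

/-- a member of `R` (four-group) -/
theorem exists_three {R : Subgroup G} (hc : Nat.card ↥R = 4) : ∃ r ∈ R, ∃ s ∈ R, r ≠ 1 ∧ s ≠ 1 ∧ r ≠ s := by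
  obtain ⟨r, hr, h1, -⟩ := CoreFree.exists_ne (B := R) hc.ge 1
  obtain ⟨s, hs, h2, h3⟩ := CoreFree.exists_ne (B := R) hc.ge r
  exact ⟨r, hr, s, hs, h1, h2, h3.symm⟩

theorem mul_ne_one' {r s : G} (hs : s * s = 1) (hne : r ≠ s) : r * s ≠ 1 := by
  intro h
  apply hne
  calc r = r * (s * s) := by rw [hs, mul_one]
    _ = (r * s) * s := by group
    _ = s := by rw [h, one_mul]

/-- the 2-component of `M` containing `J` -/
theorem exists_N {R₀ J M : Subgroup G} {Lr : G → Subgroup G} (cardR : Nat.card ↥R₀ = 4)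
    (sqR : ∀ r ∈ R₀, r * r = 1) (cent : ∀ r ∈ R₀, r ≠ 1 → centralizer ({r} : Set G) ≤ M)
    (hJ : Mkr J) (comp : ∀ r ∈ R₀, r ≠ 1 → IsComp (centralizer ({r} : Set G)) (Lr r))
    (le : ∀ r ∈ R₀, r ≠ 1 → J ≤ Lr r) : ∃ N, IsComp M N ∧ J ≤ N := by
  by_contra hcon
  push Not at hcon
  have hcm : ∀ r ∈ R₀, ∀ s ∈ R₀, r * s = s * r := fun r hr s hs =>
    comm_of_el (WFun.el_of_sq sqR) hr hs
  have hRM : ∀ r ∈ R₀, r ∈ M := by
    intro r hr
    by_cases h1 : r = 1
    · rw [h1]; exact one_mem _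
    · exact cent r hr h1 (mem_c rfl)
  have key : ∀ r ∈ R₀, r ≠ 1 → ∃ K, IsComp M K ∧ cj r K ≠ K ∧ J ≤ diag M K r := by
    intro r hr h1
    have h2 : M ⊓ centralizer ({r} : Set G) = centralizer ({r} : Set G) :=
      inf_eq_right.mpr (cent r hr h1)
    have h3 := comp r hr h1
    rw [← h2] at h3
    obtain ⟨K, hK, -, h⟩ := McLLyComp.PumpT.exists_pump (hRM r hr) (sqR r hr) h3
    rcases h with ⟨-, h⟩ | ⟨hne, h⟩
    · exact absurd ((le r hr h1).trans h) (hcon K hK)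
    · exact ⟨K, hK, hne, h ▸ le r hr h1⟩
  obtain ⟨r, hr, s, hs, h1, h2, hne⟩ := exists_three cardR
  obtain ⟨K, a1, a2, a3⟩ := key r hr h1
  obtain ⟨K', b1, b2, b3⟩ := key s hs h2
  obtain ⟨K'', c1, c2, c3⟩ := key (r * s) (mul_mem hr hs) (mul_ne_one' (sqR s hs) hne)
  exact three_swap hJ (sqR r hr) (sqR s hs) (hcm r hr s hs) (hRM r hr) (hRM s hs) a1 b1 c1 a2 b2 c2
    a3 b3 c3

/-- `g` normalizes the 2-component of `M` containing `J` if it normalizes `J` -/
theorem norm_of_le {X J M N : Subgroup G} (hJ : IsComp X J) (hN : IsComp M N) (hJN : J ≤ N) {g : G}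
    (hgM : g ∈ M) (hgJ : g ∈ normalizer (J : Set G)) : g ∈ normalizer (N : Set G) := by
  rw [mem_normalizer_iff_cj]
  refine hJ.unique (isComp_cj_of_mem hN hgM) hN ?_ hJN
  rw [← mem_normalizer_iff_cj.mp hgJ]
  exact cj_mono hJN

end gen

namespace NSt

variable {G : Type*} [Group G] [Finite G] {x y : G} {R₀ J M N : Subgroup G} {Lr : G → Subgroup G}

theorem commR (S : NSt x y R₀ J M N Lr) {r s : G} (hr : r ∈ R₀) (hs : s ∈ R₀) : r * s = s * r :=
  comm_of_el (WFun.el_of_sq S.sqR) hr hs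

theorem RM (S : NSt x y R₀ J M N Lr) {r : G} (hr : r ∈ R₀) : r ∈ M := by
  by_cases h1 : r = 1
  · rw [h1]; exact one_mem _
  · exact S.cent r hr h1 (mem_c rfl)

theorem commJ (S : NSt x y R₀ J M N Lr) {r j : G} (hr : r ∈ R₀) (hj : j ∈ J) : r * j = j * r :=
  mem_centralizer_iff.mp (S.compJ.le hj) r hr

theorem mkr (S : NSt x y R₀ J M N Lr) : Mkr J := Mkr.of_comp S.compJ

theorem le (S : NSt x y R₀ J M N Lr) {r : G} (hr : r ∈ R₀) (h1 : r ≠ 1) : J ≤ Lr r := by
  rw [← S.sup r hr h1]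
  exact le_sup_left

theorem exists_ne (S : NSt x y R₀ J M N Lr) : ∃ r ∈ R₀, r ≠ 1 := by
  obtain ⟨r, hr, h1, -⟩ := CoreFree.exists_ne (B := R₀) S.cardR.ge 1
  exact ⟨r, hr, h1⟩

theorem order (S : NSt x y R₀ J M N Lr) {r : G} (hr : r ∈ R₀) (h1 : r ≠ 1) : orderOf r = 2 :=
  (S.tri r hr h1).inva

theorem invx (S : NSt x y R₀ J M N Lr) : orderOf x = 2 := by
  obtain ⟨r, hr, h1⟩ := S.exists_ne
  exact (S.tri r hr h1).invx

theorem RJ (S : NSt x y R₀ J M N Lr) {r : G} (hr : r ∈ R₀) : r ∈ normalizer (J : Set G) :=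
  (fixes_self' (t := r) (K := J) fun j hj => mem_c (S.commJ hr hj).symm).1

theorem RN (S : NSt x y R₀ J M N Lr) {r : G} (hr : r ∈ R₀) : r ∈ normalizer (N : Set G) :=
  norm_of_le S.compJ S.comp S.JN (S.RM hr) (S.RJ hr)

theorem xN (S : NSt x y R₀ J M N Lr) : x ∈ normalizer (N : Set G) :=
  norm_of_le S.compJ S.comp S.JN S.xM S.xJ

theorem yx (S : NSt x y R₀ J M N Lr) : y ∈ core (centralizer ({x} : Set G)) := by
  have := S.yf 1 (one_mem _)
  rwa [mul_one] at this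

/-- the core of a subgroup of `N` containing `J` -/
theorem fixes_J (S : NSt x y R₀ J M N Lr) {g : G} (hgJ : g ∈ normalizer (J : Set G)) (hf : Fixes g N) :
    Fixes g J := by
  refine ⟨hgJ, fun j hj => ?_⟩
  have h1 : ⁅g, j⁆ ∈ J := by
    rw [commutatorElement_def]
    exact mul_mem (Cfsg.Agent.McLLyComp.Act.conj_mem hgJ hj) (inv_mem hj)
  have h2 := hf.2 j (S.JN hj)
  have h3 : J ⊓ core N ≤ core J := by
    refine le_core inf_le_left ?_ ?_
    · intro k hk
      have e1 : k ∈ normalizer (core N : Set G) := le_normalizer_core _ (S.JN hk)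
      have e2 := le_normalizer (H := J) hk
      rw [mem_normalizer_iff_cj] at e1 e2 ⊢
      rw [cj_inf, e1, e2]
    · exact Odd.of_dvd_nat (odd_card_core N) (card_dvd_of_le inf_le_right)
  exact h3 ⟨h1, h2⟩

/-- `t ∈ M` fixing `N` and commuting with `R₀` normalizes `J` -/
theorem norm_J (S : NSt x y R₀ J M N Lr) {t : G} (hf : Fixes t N)
    (htR : ∀ r ∈ R₀, t * r = r * t) : t ∈ normalizer (J : Set G) := by
  rw [mem_normalizer_iff_cj]
  by_contra hne
  have htC : t ∈ centralizer (R₀ : Set G) := by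
    rw [mem_centralizer_iff]
    exact fun r hr => (htR r hr).symm
  have hcj : IsComp (centralizer (R₀ : Set G)) (cj t J) := isComp_cj_of_mem S.compJ htC
  obtain ⟨O, hO⟩ : ∃ O, O = core (centralizer (R₀ : Set G)) ⊓ N := ⟨_, rfl⟩
  have hOodd : Odd (Nat.card ↥O) := by
    rw [hO]
    exact Odd.of_dvd_nat (odd_card_core _) (card_dvd_of_le inf_le_left)
  have hON : O ≤ normalizer (core N : Set G) := by
    rw [hO]
    exact inf_le_right.trans (le_normalizer_core N)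
  have hK := odd_sup hOodd (odd_card_core N) hON
  refine S.mkr.false_of_comm hK fun a ha b hb => ?_
  have hb' : t * b * t⁻¹ ∈ cj t J := conj_mem_cj hb
  have h1 : ⁅a, t * b * t⁻¹⁆ ∈ core (centralizer (R₀ : Set G)) :=
    S.compJ.core_le_core (S.compJ.comm_le_core hcj (fun h => hne h.symm)
      (commutator_mem_commutator ha hb')).1
  obtain ⟨c, hc⟩ : ∃ c, c = t * b * t⁻¹ * b⁻¹ := ⟨_, rfl⟩
  have hcN : c ∈ core N := by
    have h2 := hf.2 b (S.JN hb)
    rw [commutatorElement_def] at h2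
    rw [hc]
    exact h2
  have htb : t * b * t⁻¹ = c * b := by rw [hc]; group
  have haN := S.JN ha
  have hbN := S.JN hb
  have h3 : ⁅a, c * b⁆ ∈ O := by
    have hcb : c * b ∈ N := mul_mem (core_le N hcN) hbN
    have e1 : ⁅a, c * b⁆ ∈ N := by
      rw [commutatorElement_def]
      exact mul_mem (mul_mem (mul_mem haN hcb) (inv_mem haN)) (inv_mem hcb)
    rw [hO]
    exact ⟨htb ▸ h1, e1⟩
  have h4 : a * c⁻¹ * a⁻¹ ∈ core N := conj_core haN (inv_mem hcN)
  have h5 : ⁅a, b⁆ = a * c⁻¹ * a⁻¹ * ⁅a, c * b⁆ * c := by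
    rw [commutatorElement_def, commutatorElement_def]
    group
  rw [h5]
  exact mul_mem (mul_mem (mem_sup_right h4) (mem_sup_left h3)) (mem_sup_right hcN)

/-- an involution of `M` fixing `N` can be chosen in `C(x, R₀)` -/
theorem exists_t (S : NSt x y R₀ J M N Lr) {t : G} (htM : t ∈ M) (ht : orderOf t = 2) (hf : Fixes t N) :
    ∃ t ∈ M, orderOf t = 2 ∧ Fixes t N ∧ t * x = x * t ∧ ∀ r ∈ R₀, t * r = r * t := by
  obtain ⟨V, hV⟩ : ∃ V, V = R₀ ⊔ zpowers x := ⟨_, rfl⟩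
  have hxx := sq_of_order S.invx
  have hel : IsElementaryAbelian 2 V := by
    rw [hV]
    refine WFun.el_sup (WFun.el_of_sq S.sqR) (WFun.el_zpowers hxx) fun r hr z hz => ?_
    rcases (WFun.mem_zpowers_of_sq hxx).mp hz with rfl | rfl
    · rw [one_mul, mul_one]
    · exact (S.xR r hr).symm
  have hV2 : IsPGroup 2 ↥V := isPGroup_of_el hel
  obtain ⟨Q, hQ⟩ : ∃ Q, Q = fix M N := ⟨_, rfl⟩
  have hQM : Q ≤ M := hQ ▸ fix_le M N
  have hVM : V ≤ M := by
    rw [hV, sup_le_iff, zpowers_le]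
    exact ⟨fun r hr => S.RM hr, S.xM⟩
  have hVQ : V ≤ normalizer (Q : Set G) := by
    have key : ∀ g : G, g ∈ M → g ∈ normalizer (N : Set G) → g ∈ normalizer (Q : Set G) := by
      intro g hgM hgN
      rw [mem_normalizer_iff_cj, hQ, cj_fix, mem_normalizer_iff_cj.mp hgN,
        mem_normalizer_iff_cj.mp (le_normalizer hgM)]
    rw [hV, sup_le_iff, zpowers_le]
    exact ⟨fun r hr => key r (S.RM hr) (S.RN hr), key x S.xM S.xN⟩
  obtain ⟨P, hP, hVP⟩ := exists_isSyl hV2 (le_sup_left : V ≤ V ⊔ Q)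
  have hn : V ⊔ Q ≤ normalizer (Q : Set G) := sup_le hVQ le_normalizer
  have hPQ := hP.inf le_sup_right hn
  have htQ : t ∈ Q := by rw [hQ, mem_fix]; exact ⟨htM, hf⟩
  have h2 : 2 ^ 1 ∣ Nat.card ↥Q := by
    rw [pow_one, ← ht]
    exact Subgroup.orderOf_dvd_natCard Q htQ
  have hne : P ⊓ Q ≠ ⊥ := by
    intro h
    have h3 := hPQ.dvd_card h2
    rw [h, card_bot, pow_one] at h3
    omega
  obtain ⟨e, he, heo, hec⟩ := exists_central hP.two inf_le_left (by
    intro g hg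
    have e1 := le_normalizer (H := P) hg
    have e2 := hn (hP.le hg)
    rw [mem_normalizer_iff_cj] at e1 e2 ⊢
    rw [cj_inf, e1, e2]) hne
  have heQ : e ∈ Q := he.2
  rw [hQ, mem_fix] at heQ
  refine ⟨e, heQ.1, heo, heQ.2, ?_, fun r hr => ?_⟩
  · exact (hec x (hVP (hV ▸ mem_sup_right (mem_zpowers x)))).symm
  · exact (hec r (hVP (hV ▸ mem_sup_left hr))).symm

/-! ### the claim (*) -/

section star

variable {t : G}

/-- `t` fixes `J` -/
theorem fixJ (S : NSt x y R₀ J M N Lr) (hf : Fixes t N) (htR : ∀ r ∈ R₀, t * r = r * t) : Fixes t J :=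
  S.fixes_J (S.norm_J hf htR) hf

/-- `t` fixes `L_r` -/
theorem fixL (S : NSt x y R₀ J M N Lr) (hf : Fixes t N) (htR : ∀ r ∈ R₀, t * r = r * t) {r : G}
    (hr : r ∈ R₀) (h1 : r ≠ 1) : Fixes t (Lr r) := by
  have hfJ := S.fixJ hf htR
  have htL : t ∈ normalizer (Lr r : Set G) := by
    refine norm_of_le S.compJ (S.tri r hr h1).comp (S.le hr h1) (mem_c (htR r hr)) hfJ.1
  exact (fixes_iff_of_sup (S.sup r hr h1) hfJ.1 htL).mp hfJ

/-- `J₁ = cen J t` covers `J` and `L_r` -/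
theorem cen_sup (S : NSt x y R₀ J M N Lr) (ht : orderOf t = 2) (hf : Fixes t N)
    (htR : ∀ r ∈ R₀, t * r = r * t) : IsComp (centralizer (R₀ : Set G) ⊓ centralizer ({t} : Set G)) (cen J t) ∧
      cen J t ⊔ core J = J := by
  have htC : t ∈ centralizer (R₀ : Set G) := by
    rw [mem_centralizer_iff]
    exact fun r hr => (htR r hr).symm
  exact isComp_cen S.compJ htC (sq_of_order ht) (S.fixJ hf htR)

theorem sup_of_core {A B C : Subgroup G} (h1 : A ⊔ core B = B) (h2 : B ⊔ core C = C) : A ⊔ core C = C := by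
  have h3 : core B ≤ core C := core_le_of_sup h2
  apply le_antisymm
  · refine sup_le ?_ (core_le C)
    calc A ≤ B := by rw [← h1]; exact le_sup_left
      _ ≤ C := by rw [← h2]; exact le_sup_left
  · calc C = A ⊔ core B ⊔ core C := by rw [h1, h2]
      _ ≤ A ⊔ core C := sup_le (sup_le le_sup_left (h3.trans le_sup_right)) le_sup_right

/-- `J₁` covers `cen L_r t` -/
theorem cen_sup_L (S : NSt x y R₀ J M N Lr) (ht : orderOf t = 2) (hf : Fixes t N)
    (htR : ∀ r ∈ R₀, t * r = r * t) {r : G} (hr : r ∈ R₀) (h1 : r ≠ 1) :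
    cen J t ⊔ core (cen (Lr r) t) = cen (Lr r) t := by
  have h2 := (S.cen_sup ht hf htR).2
  have h3 := sup_of_core h2 (S.sup r hr h1)
  have h4 := (S.tri r hr h1).comp
  have h5 := isComp_cen h4 (mem_c (htR r hr)) (sq_of_order ht) (S.fixL hf htR hr h1)
  have hle : cen J t ≤ cen (Lr r) t := PComponents.pElem_mono (inf_le_inf_right _ (S.le hr h1))
  refine sup_of_exists hle fun k hk => ?_
  obtain ⟨j, hj, hjk⟩ := exists_mul_of_sup h3 (cen_le _ _ hk)
  refine ⟨j, hj, ?_⟩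
  have h6 : core (Lr r) ⊓ cen (Lr r) t ≤ core (cen (Lr r) t) := by
    refine le_core inf_le_right ?_ ?_
    · intro g hg
      have e1 : g ∈ normalizer (core (Lr r) : Set G) := le_normalizer_core _ (cen_le _ _ hg)
      have e2 := le_normalizer (H := cen (Lr r) t) hg
      rw [mem_normalizer_iff_cj] at e1 e2 ⊢
      rw [cj_inf, e1, e2]
    · exact Odd.of_dvd_nat (odd_card_core _) (card_dvd_of_le inf_le_left)
  exact h6 (Subgroup.mem_inf.mpr ⟨hjk, mul_mem (inv_mem (hle hj)) hk⟩)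

/-- an element of `J ∩ O(C(x)) ∩ C(t)` moving `N₁ = cen N t` -/
theorem exists_y (S : NSt x y R₀ J M N Lr) (htM : t ∈ M) (ht : orderOf t = 2) (hf : Fixes t N) (htx : t * x = x * t)
    (htR : ∀ r ∈ R₀, t * r = r * t) : ∃ d ∈ J, d ∈ core (centralizer ({x} : Set G)) ∧ d * t = t * d ∧
      ¬ Fixes d (cen N t) := by
  have htt := sq_of_order ht
  have hfJ := S.fixJ hf htR
  obtain ⟨O, hO⟩ : ∃ O, O = core J ⊓ core (centralizer ({x} : Set G)) := ⟨_, rfl⟩
  have hOodd : Odd (Nat.card ↥O) := by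
    rw [hO]
    exact Odd.of_dvd_nat (odd_card_core _) (card_dvd_of_le inf_le_left)
  have htO : t ∈ normalizer (O : Set G) := by
    have e1 := normalizer_le_normalizer_core J hfJ.1
    have e2 : t ∈ normalizer (core (centralizer ({x} : Set G)) : Set G) := le_normalizer_core _ (mem_c htx)
    rw [mem_normalizer_iff_cj] at e1 e2 ⊢
    rw [hO, cj_inf, e1, e2]
  have h1 : y⁻¹ * (t * y * t⁻¹) ∈ O := by
    have h4 : y⁻¹ * (t * y * t⁻¹) ∈ core J := by
      have h2 := hfJ.2 y S.yJ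
      rw [commutatorElement_def] at h2
      have h3 := conj_core (inv_mem S.yJ) h2
      convert h3 using 1
      group
    rw [hO]
    exact Subgroup.mem_inf.mpr ⟨h4, mul_mem (inv_mem S.yx) (conj_core (mem_c htx) S.yx)⟩
  obtain ⟨o, ho, hc⟩ := Intrinsic.Lifting.exists_commute (n := 1) hOodd (by rw [pow_one, pow_two, htt]) htO h1
  rw [hO] at ho
  have hdJ : y * o ∈ J := mul_mem S.yJ (core_le _ ho.1)
  refine ⟨y * o, hdJ, mul_mem S.yx ho.2, hc.symm, fun h => S.ymv ?_⟩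
  -- `y o` fixes `N`
  obtain ⟨-, h2⟩ := isComp_cen S.comp htM htt hf
  have h3 : Fixes (y * o) N := (fixes_iff_of_sup h2 h.1 (le_normalizer (S.JN hdJ))).mp h
  have h4 := S.fixes_J (le_normalizer hdJ) h3
  have h5 : Fixes o J := S.compJ.fixes_of_core (S.compJ.core_le_core ho.1)
  have h6 := fixes_mul h4 (fixes_inv h5)
  rwa [mul_inv_cancel_right] at h6

/-- a subgroup normal in the 2-component `N₁` -/
theorem le_or {X N₁ B : Subgroup G} (hN : IsComp X N₁) (hB : B ≤ N₁)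
    (hn : N₁ ≤ normalizer (B : Set G)) : N₁ ≤ B ∨ ⁅N₁, B⁆ ≤ core N₁ := by
  have h1 : IsComp N₁ N₁ := hN.restrict hN.le le_rfl
  exact h1.le_or_comm hB (normal_subgroupOf_of_le_normalizer hn).isSubnormal

/-- `N₁ = [N₁, d]` if `d` moves the 2-component `N₁` -/
theorem le_comm_of_not_fixes {X N₁ : Subgroup G} (hN : IsComp X N₁) {d : G}
    (hd : d ∈ normalizer (N₁ : Set G)) (hf : ¬ Fixes d N₁) : N₁ ≤ ⁅N₁, zpowers d⁆ := by
  have hz : zpowers d ≤ normalizer (N₁ : Set G) := by rwa [zpowers_le]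
  have hB : ⁅N₁, zpowers d⁆ ≤ N₁ := by
    rw [Subgroup.commutator_le]
    intro a ha b hb
    rw [commutatorElement_def]
    have e : a * b * a⁻¹ * b⁻¹ = a * (b * a⁻¹ * b⁻¹) := by group
    rw [e]
    exact mul_mem ha (Cfsg.Agent.McLLyComp.Act.conj_mem (hz hb) (inv_mem ha))
  have hn : N₁ ≤ normalizer ((⁅N₁, zpowers d⁆ : Subgroup G) : Set G) := by
    rw [Subgroup.commutator_comm]
    exact Lib.CoprimeCommutator.right_le_normalizer_commutator (zpowers d) N₁
  rcases le_or hN hB hn with h | h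
  · exact h
  · exfalso
    apply hf
    -- `[N₁, [N₁, d]] ≤ O(N₁)`
    refine ⟨hd, ?_⟩
    have h1 : ∀ a ∈ N₁, ∀ b ∈ N₁, ⁅a, ⁅b, d⁆⁆ ∈ core N₁ := fun a ha b hb =>
      h (commutator_mem_commutator ha (commutator_mem_commutator hb (mem_zpowers d)))
    -- pass to `N₁ / O(N₁)`
    obtain ⟨δ, hδ⟩ : ∃ δ : MulAut (Bar N₁), δ = act N₁ ⟨d, hd⟩ := ⟨_, rfl⟩
    have h2 : δ = 1 := by
      refine Cfsg.Agent.UGT.U2.AutBar.bar_injective (?_ : Group.IsPerfect (Bar N₁)) ?_
      · have : Group.IsPerfect ↥N₁ := by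
          rw [isPerfect_iff]
          exact hN.perfect
        infer_instance
      · rw [map_one]
        apply MulEquiv.ext
        intro k
        obtain ⟨k, rfl⟩ := QuotientGroup.mk_surjective k
        obtain ⟨⟨k, hk⟩, rfl⟩ := QuotientGroup.mk_surjective k
        rw [Cfsg.Agent.UGT.U2.AutBar.bar_mk, MulAut.one_apply, hδ, act_mk hd hk]
        rw [eq_comm, QuotientGroup.eq, Subgroup.mem_center_iff]
        intro g
        obtain ⟨⟨g, hg⟩, rfl⟩ := QuotientGroup.mk_surjective g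
        have hdk : d * k * d⁻¹ ∈ N₁ := Cfsg.Agent.McLLyComp.Act.conj_mem hd hk
        have h3 := h1 g hg k⁻¹ (inv_mem hk)
        have e : ⁅k⁻¹, d⁆ = k⁻¹ * (d * k * d⁻¹) := by
          rw [commutatorElement_def]; group
        rw [e] at h3
        have hm : k⁻¹ * (d * k * d⁻¹) ∈ N₁ := mul_mem (inv_mem hk) hdk
        change (QuotientGroup.mk ((⟨g, hg⟩ : ↥N₁) * ⟨k⁻¹ * (d * k * d⁻¹), hm⟩) : Bar N₁) =
          QuotientGroup.mk ((⟨k⁻¹ * (d * k * d⁻¹), hm⟩ : ↥N₁) * ⟨g, hg⟩)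
        rw [← mul_inv_eq_one, ← QuotientGroup.mk_inv, ← QuotientGroup.mk_mul]
        have h4 : (⟨g, hg⟩ : ↥N₁) * ⟨k⁻¹ * (d * k * d⁻¹), hm⟩ *
            (⟨k⁻¹ * (d * k * d⁻¹), hm⟩ * ⟨g, hg⟩)⁻¹ = ⁅(⟨g, hg⟩ : ↥N₁), ⟨k⁻¹ * (d * k * d⁻¹), hm⟩⁆ := by
          rw [commutatorElement_def]; group
        rw [h4]
        have hmem : ⁅g, k⁻¹ * (d * k * d⁻¹)⁆ ∈ N₁ := by
          rw [commutatorElement_def]
          exact mul_mem (mul_mem (mul_mem hg hm) (inv_mem hg)) (inv_mem hm)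
        exact (mk_eq_one_iff hmem).mpr h3
    exact ((act_eq_one_iff hd).mp (hδ ▸ h2)).2

/-- `[N₁, d]` normalizes the 2-components of `C(t)`, `d ∈ O(C(x)) ∩ C(t)`, `N₁ ≤ C(t)` -/
theorem comm_le_normalizer {N₁ K : Subgroup G} {d : G} (hx : orderOf x = 2) (htx : t * x = x * t)
    (hN : N₁ ≤ centralizer ({t} : Set G)) (hd : d ∈ core (centralizer ({x} : Set G))) (hdt : d * t = t * d)
    (hK : IsComp (centralizer ({t} : Set G)) K) : ⁅N₁, zpowers d⁆ ≤ normalizer (K : Set G) := by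
  have key : ∀ K', IsComp (centralizer ({t} : Set G)) K' → zpowers d ≤ normalizer (K' : Set G) := by
    intro K' hK'
    rw [zpowers_le]
    exact Triple.mem_normalizer hK' (mem_c htx.symm) hx (inf_le_core hd (mem_c hdt))
  rw [Subgroup.commutator_le]
  intro g hg b hb
  rw [commutatorElement_def]
  refine mul_mem ?_ (inv_mem (key K hK hb))
  have h1 : b ∈ normalizer (cj g⁻¹ K : Set G) :=
    key _ (isComp_cj_of_mem hK (inv_mem (hN hg))) hb
  rw [mem_normalizer_iff_cj] at h1 ⊢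
  rw [cj_mul, cj_mul, h1, cj_cj_inv]

/-- **(*)** -/
theorem star (P : Pgl G) (S : NSt x y R₀ J M N Lr) (hR : ∀ r ∈ R₀, r ≠ 1 → ¬ Fixes r N) :
    ∀ t ∈ M, orderOf t = 2 → ¬ Fixes t N := by
  intro t htM ht hf
  obtain ⟨t, htM, ht, hf, htx, htR⟩ := S.exists_t htM ht hf
  have htt := sq_of_order ht
  obtain ⟨hJ1, hJ1s⟩ := S.cen_sup ht hf htR
  have mJ1 : Mkr (cen J t) := Mkr.of_comp hJ1
  have hpump : ∀ r ∈ R₀, r ≠ 1 → ∃ K, IsTriple x t K ∧
      ((r ∈ normalizer (K : Set G) ∧ cen (Lr r) t ≤ K) ∨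
      (IntrinsicBasic.cj r K ≠ K ∧ cen (Lr r) t = diag (centralizer ({t} : Set G)) K r)) := fun r hr h1 =>
    (S.tri r hr h1).pump ht (htR r hr) htx (S.fixL hf htR hr h1)
  have hle : ∀ r ∈ R₀, r ≠ 1 → cen J t ≤ cen (Lr r) t := fun r hr h1 =>
    PComponents.pElem_mono (inf_le_inf_right _ (S.le hr h1))
  -- some pump-up is not diagonal
  have hA : ∃ r ∈ R₀, r ≠ 1 ∧ ∃ K, IsTriple x t K ∧ r ∈ normalizer (K : Set G) ∧ cen (Lr r) t ≤ K := by
    by_contra hcon
    push Not at hcon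
    have key : ∀ r ∈ R₀, r ≠ 1 → ∃ K, IsComp (centralizer ({t} : Set G)) K ∧ cj r K ≠ K ∧
        cen J t ≤ diag (centralizer ({t} : Set G)) K r := by
      intro r hr h1
      obtain ⟨K, hK, h⟩ := hpump r hr h1
      rcases h with ⟨h2, h3⟩ | ⟨h2, h3⟩
      · exact absurd h3 (hcon r hr h1 K hK h2)
      · exact ⟨K, hK.comp, h2, h3 ▸ hle r hr h1⟩
    obtain ⟨r, hr, s, hs, h1, h2, hne⟩ := exists_three S.cardR
    obtain ⟨K, a1, a2, a3⟩ := key r hr h1
    obtain ⟨K', b1, b2, b3⟩ := key s hs h2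
    obtain ⟨K'', c1, c2, c3⟩ := key (r * s) (mul_mem hr hs) (mul_ne_one' (S.sqR s hs) hne)
    exact three_swap mJ1 (S.sqR r hr) (S.sqR s hs) (S.commR hr hs) (mem_c (htR r hr).symm)
      (mem_c (htR s hs).symm) a1 b1 c1 a2 b2 c2 a3 b3 c3
  obtain ⟨r, hr, h1, K, hK, hrK, hLK⟩ := hA
  -- `K = J₁ O(K)`
  have hcov := P.rtriv.triv (S.tri r hr h1) ht (htR r hr) htx (S.fixL hf htR hr h1) hK hrK hLK
  have hJK : cen J t ⊔ core K = K := sup_of_core (S.cen_sup_L ht hf htR hr h1) hcov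
  -- `N₁`
  obtain ⟨hN1, hN1s⟩ := isComp_cen S.comp htM htt hf
  obtain ⟨d, hdJ, hdx, hdt, hdf⟩ := S.exists_y htM ht hf htx htR
  have hN1t : cen N t ≤ centralizer ({t} : Set G) := cen_le_centralizer N t
  have hdN : d ∈ normalizer (cen N t : Set G) := mem_normalizer_cen (le_normalizer (S.JN hdJ)) hdt
  have hN1K : cen N t ≤ normalizer (K : Set G) :=
    (le_comm_of_not_fixes hN1 hdN hdf).trans (comm_le_normalizer S.invx htx hN1t hdx hdt hK.comp)
  have hJN1 : cen J t ≤ cen N t := PComponents.pElem_mono (inf_le_inf_right _ S.JN)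
  have hJK' : cen J t ≤ K := by rw [← hJK]; exact le_sup_left
  -- `N₁ ≤ K`
  have hle2 : cen N t ≤ K := by
    have hB : K ⊓ cen N t ≤ cen N t := inf_le_right
    have hn : cen N t ≤ normalizer ((K ⊓ cen N t : Subgroup G) : Set G) := by
      intro g hg
      have e1 := hN1K hg
      have e2 := le_normalizer (H := cen N t) hg
      rw [mem_normalizer_iff_cj] at e1 e2 ⊢
      rw [cj_inf, e1, e2]
    rcases le_or hN1 hB hn with h | h
    · exact h.trans inf_le_left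
    · exfalso
      refine mJ1.false_of_comm (odd_card_core (cen N t)) fun a ha b hb => ?_
      exact h (commutator_mem_commutator (hJN1 ha) (Subgroup.mem_inf.mpr ⟨hJK' hb, hJN1 hb⟩))
  -- `N₁ = J₁ O(N₁)`
  have hcov1 : cen J t ⊔ core (cen N t) = cen N t := by
    refine sup_of_exists hJN1 fun k hk => ?_
    obtain ⟨j, hj, hjk⟩ := exists_mul_of_sup hJK (hle2 hk)
    refine ⟨j, hj, ?_⟩
    have h6 : core (centralizer ({t} : Set G)) ⊓ cen N t ≤ core (cen N t) := by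
      refine le_core inf_le_right ?_ ?_
      · intro g hg
        have e1 : g ∈ normalizer (core (centralizer ({t} : Set G)) : Set G) :=
          le_normalizer_core _ (hN1t hg)
        have e2 := le_normalizer (H := cen N t) hg
        rw [mem_normalizer_iff_cj] at e1 e2 ⊢
        rw [cj_inf, e1, e2]
      · exact Odd.of_dvd_nat (odd_card_core _) (card_dvd_of_le inf_le_left)
    exact h6 (Subgroup.mem_inf.mpr ⟨hK.comp.core_le_core hjk, mul_mem (inv_mem (hJN1 hj)) hk⟩)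
  have hcovN : cen J t ⊔ core N = N := sup_of_core hcov1 hN1s
  -- `r` fixes `N`
  have hrJ1 : Fixes r (cen J t) := fixes_self' fun k hk => mem_c (S.commJ hr (cen_le J t hk)).symm
  exact hR r hr h1 ((fixes_iff_of_sup hcovN hrJ1.1 (S.RN hr)).mp hrJ1)

end star

end NSt

end Cfsg.Agent.UGT.Res.W1
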