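import Cfsg.Agent.UGT.Res.TFin
import Cfsg.Agent.UGT.Res.YJP
import Cfsg.Agent.UGT.Res.W1.Star
import Cfsg.Agent.UGT.Res.WMany.Leaf

/-!
# Step 1: from `PR` to `NSt`, and from `N` to the conjugates of `H`

* `nst`: `NSt x y R₀ (cen L t) M N Lr` from `PR x a t L Lr`.
* `cj_of`: if some `r ∈ R₀#` fixes `N`, then the conjugates of `H` under `M = N(W)` are `H` or commute with `H` modulo
  `W`.
* `Faith`: no `NSt` with `R₀` faithful on `N`, `M = N(W) ≠ G`; `bot_of`: then `W = 1` for all `TF`.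
-/

set_option autoImplicit false
set_option linter.unusedSectionVars false

open Cfsg Subgroup
open Cfsg.Agent.SignalizersComponents Cfsg.Agent.Lib
open Cfsg.Agent.SignalizersComponents.IntrinsicBasic
open Cfsg.Agent.SignalizersComponents.IntrinsicIntr
open Cfsg.Agent.SignalizersComponents.PLayerAut
open Cfsg.Agent.Intrinsic.Basic Cfsg.Agent.Intrinsic.Cen Cfsg.Agent.Intrinsic.Diag
open Cfsg.Agent.McLLyComp.Act
open Cfsg.Agent.UGT.Triple Cfsg.Agent.UGT.LemG Cfsg.Agent.UGT.PumpGen Cfsg.Agent.UGT.TriBase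
open Cfsg.Agent.UGT.A9.Marker
open Cfsg.Agent.UGT.Res.Base Cfsg.Agent.UGT.Res.KMax Cfsg.Agent.UGT.Res.KOne
open Cfsg.Agent.UGT.Res.Abel Cfsg.Agent.UGT.Res.CoreFree
open Cfsg.Agent.UGT.Res.KFacts
open Cfsg.Agent.UGT.Res.WFun Cfsg.Agent.UGT.Res.WPair Cfsg.Agent.UGT.Res.WStar
open Cfsg.Agent.UGT.Res.WGlue Cfsg.Agent.UGT.Res.CovTools Cfsg.Agent.UGT.Res.TFour
open Cfsg.Agent.UGT.Res.WGlueA (mem_of_pow odd_order_of_core simp_of card_four)
open Cfsg.Agent.UGT.Res.WGlueP Cfsg.Agent.UGT.Res.TFin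
open scoped commutatorElement

namespace Cfsg.Agent.UGT.Res.W1.Of

universe u

variable {G : Type u} [Group G] [Finite G] {x a t : G} {L : Subgroup G} {Lr : G → Subgroup G}

theorem cen_R (a t : G) :
    centralizer ((zpowers a ⊔ zpowers t : Subgroup G) : Set G) =
      centralizer ({a} : Set G) ⊓ centralizer ({t} : Set G) := by
  ext g
  rw [mem_inf, mem_centralizer_iff]
  constructor
  · intro h
    exact ⟨mem_c (h a (mem_sup_left (mem_zpowers a))).symm,
      mem_c (h t (mem_sup_right (mem_zpowers t))).symm⟩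
  · rintro ⟨h2, h3⟩ r hr
    have h4 : zpowers a ⊔ zpowers t ≤ centralizer ({g} : Set G) :=
      sup_le (zpowers_le.mpr (mem_c (comm_c h2).symm)) (zpowers_le.mpr (mem_c (comm_c h3).symm))
    exact comm_c (h4 hr)

theorem comp_J (S : PR x a t L Lr) :
    IsComp (centralizer ((zpowers a ⊔ zpowers t : Subgroup G) : Set G)) (cen L t) ∧
      cen L t ⊔ core L = L := by
  rw [cen_R a t]
  exact isComp_cen S.T.comp (mem_c S.ta) (sq_of_order S.ot) S.tL

/-- **`NSt` from `PR`** -/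
theorem nst (P : Pgl G) (S : PR x a t L Lr) {M N : Subgroup G} (xM : x ∈ M)
    (cent : ∀ r ∈ zpowers a ⊔ zpowers t, r ≠ 1 → centralizer ({r} : Set G) ≤ M) (hN : IsComp M N)
    (hJN : cen L t ≤ N) : ∃ y, NSt x y (zpowers a ⊔ zpowers t) (cen L t) M N Lr := by
  obtain ⟨s, A, hX⟩ := exists_fourX P S
  obtain ⟨y, hyJ, hyx, hyL, hyf⟩ := YJP.yj P S
  obtain ⟨hJ, hs⟩ := comp_J S
  have hxJ : x ∈ normalizer (cen L t : Set G) := mem_normalizer_cen S.T.x_mem S.tx.symm
  exact ⟨y, { cardR := hX.cardR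
              sqR := hX.sqR
              xM := xM
              xR := hX.xR
              cent := cent
              comp := hN
              JN := hJN
              compJ := hJ
              tri := fun r hr h1 => (S.pump r hr h1).1
              sup := fun r hr h1 => (S.pump r hr h1).2
              xJ := hxJ
              yJ := hyJ
              yf := hyf
              ymv := fun h => hyL ((fixes_iff_of_sup hs h.1
                (le_normalizer (cen_le L t hyJ))).mp h) }⟩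

/-- `N` -/
theorem exists_N' (P : Pgl G) (S : PR x a t L Lr) {M : Subgroup G}
    (cent : ∀ r ∈ zpowers a ⊔ zpowers t, r ≠ 1 → centralizer ({r} : Set G) ≤ M) :
    ∃ N, IsComp M N ∧ cen L t ≤ N := by
  obtain ⟨s, A, hX⟩ := exists_fourX P S
  refine exists_N hX.cardR hX.sqR cent (Mkr.of_comp (comp_J S).1) (fun r hr h1 => (S.pump r hr h1).1.comp)
    fun r hr h1 => ?_
  rw [← (S.pump r hr h1).2]
  exact le_sup_left

/-- **the conjugates of `H`**, if some `r ∈ R₀#` fixes `N` -/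
theorem cj_of (S : PR x a t L Lr) {W H N : Subgroup G} (hcore : core H = W) (hH : cen L t ⊔ W = H)
    (hodd : Odd (Nat.card ↥W))
    (cent : ∀ r ∈ zpowers a ⊔ zpowers t, r ≠ 1 → centralizer ({r} : Set G) ≤ normalizer (W : Set G))
    (hck : ∀ w ∈ core (normalizer (W : Set G)), ∀ j ∈ cen L t, ⁅j, w⁆ ∈ W)
    (hN : IsComp (normalizer (W : Set G)) N) (hJN : cen L t ≤ N) {r : G}
    (hr : r ∈ zpowers a ⊔ zpowers t) (h1 : r ≠ 1) (hrr : r * r = 1) (hf : Fixes r N) : Cj W H := by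
  obtain ⟨M, hM⟩ : ∃ M, M = normalizer (W : Set G) := ⟨_, rfl⟩
  rw [← hM] at cent hck hN
  obtain ⟨J, hJd⟩ : ∃ J, J = cen L t := ⟨_, rfl⟩
  obtain ⟨hJ, -⟩ := comp_J S
  obtain ⟨Tr, hs⟩ := S.pump r hr h1
  rw [← hJd] at hH hJ hJN hck hs
  have hrJ : ∀ j ∈ J, r * j = j * r := fun j hj => mem_centralizer_iff.mp (hJ.le hj) r hr
  have hrM : r ∈ M := cent r hr h1 (mem_c rfl)
  have hcr := cent r hr h1
  -- `J O(N) = N`
  obtain ⟨hNc, hNs⟩ := isComp_cen hN hrM hrr hf
  rw [inf_eq_right.mpr hcr] at hNc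
  have hJc : J ≤ cen N r := le_cen hJ hJN fun j hj => mem_c (hrJ j hj).symm
  have heq : Lr r = cen N r := by
    refine hJ.unique Tr.comp hNc ?_ hJc
    rw [← hs]
    exact le_sup_left
  have hJN' : J ⊔ core N = N := cover_trans (heq ▸ hs) hNs
  have hWM : W ≤ core M := le_core (hM ▸ le_normalizer) hM.le hodd
  have hNn : core M ≤ normalizer (N : Set G) := fun c hc => (hN.fixes_of_core hc).1
  have hJM : J ≤ normalizer (W : Set G) := hM ▸ hJN.trans hN.le
  -- `O(N)` normalizes `H`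
  have hcH : core N ≤ normalizer (H : Set G) := by
    intro c hc
    have hcM := hN.core_le_core hc
    have hcN : c ∈ normalizer (W : Set G) := hM ▸ core_le M hcM
    have hle : cj c H ≤ H := by
      rw [← hH, cj_sup]
      refine sup_le ?_ ?_
      · intro z hz
        rw [mem_cj] at hz
        obtain ⟨k, hk⟩ : ∃ k, k = c⁻¹ * z * c := ⟨_, rfl⟩
        rw [← hk] at hz
        have h2 : z = ⁅k, c⁆⁻¹ * k := by
          rw [commutatorElement_def, hk]
          group
        rw [h2]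
        exact mul_mem (mem_sup_right (inv_mem (hck c hcM k hz))) (mem_sup_left hz)
      · rw [mem_normalizer_iff_cj.mp hcN]
        exact le_sup_right
    rw [mem_normalizer_iff_cj]
    exact Subgroup.eq_of_le_of_card_ge hle (by rw [card_cj])
  -- `N ≤ H`
  have hJH : J ≤ H := hH ▸ le_sup_left
  have hNH : N ≤ H := by
    refine hN.le_of_two fun g hg n hn => ?_
    obtain ⟨j, hj, hc⟩ := exists_mul_of_sup hJN' hg
    exact mem_of_pow (c := j⁻¹ * g) (m := j) (by group) (hJH hj) (hcH hc) (odd_order_of_core hc) hn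
  have hNW : N ⊔ W = H := by
    refine le_antisymm (sup_le hNH (hH ▸ le_sup_right)) ?_
    rw [← hH]
    exact sup_le_sup_right hJN _
  have hHn : H ≤ normalizer (N : Set G) := by
    rw [← hNW]
    exact sup_le le_normalizer (hWM.trans hNn)
  -- `O(N) ≤ W`
  have hcW : core N ≤ W := by
    rw [← hcore]
    refine le_core ((core_le N).trans hNH) ?_ (odd_card_core N)
    exact hHn.trans (normalizer_le_normalizer_core N)
  intro m hm
  have hmW := mem_normalizer_iff_cj.mp hm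
  rw [← hM] at hm
  by_cases h : cj m N = N
  · left
    rw [← hNW, cj_sup, h, hmW]
  · right
    have hmN := isComp_cj_of_mem hN hm
    have h2 : ⁅N, cj m N⁆ ≤ W := (hN.comm_le_core hmN (Ne.symm h)).trans (inf_le_left.trans hcW)
    have h3 : cj m H = cj m N ⊔ W := by
      rw [← hNW, cj_sup, hmW]
    rw [h3]
    conv_lhs => rw [← hNW]
    refine (comm_sup_le ?_ ?_).trans (sup_le h2 le_rfl)
    · exact hM ▸ hN.le
    · exact hM ▸ hmN.le

/-- `w ∈ N(W)` with `[J, w] ≤ W` acts trivially on `J W / W` -/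
theorem fixes_of_comm' {W H J : Subgroup G} (hH : J ⊔ W = H) (hcore : core H = W)
    (hJW : J ≤ normalizer (W : Set G)) {w : G} (hw : w ∈ normalizer (W : Set G))
    (h : ∀ j ∈ J, ⁅j, w⁆ ∈ W) : Fixes w H := by
  refine ⟨?_, ?_⟩
  · have hle : cj w H ≤ H := by
      rw [← hH, cj_sup]
      refine sup_le ?_ ?_
      · intro z hz
        rw [mem_cj] at hz
        obtain ⟨k, hk⟩ : ∃ k, k = w⁻¹ * z * w := ⟨_, rfl⟩
        rw [← hk] at hz
        have h2 : z = ⁅k, w⁆⁻¹ * k := by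
          rw [commutatorElement_def, hk]
          group
        rw [h2]
        exact mul_mem (mem_sup_right (inv_mem (h k hz))) (mem_sup_left hz)
      · rw [mem_normalizer_iff_cj.mp hw]
        exact le_sup_right
    rw [mem_normalizer_iff_cj]
    exact Subgroup.eq_of_le_of_card_ge hle (by rw [card_cj])
  · intro y hy
    rw [hcore]
    rw [← hH] at hy
    obtain ⟨j, hj, v, hv, rfl⟩ := (mem_sup_left_iff hJW).mp hy
    have h1 : ⁅w, j * v⁆ = ⁅j, w⁆⁻¹ * (j * (w * v * w⁻¹ * v⁻¹) * j⁻¹) := by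
      rw [commutatorElement_def, commutatorElement_def]
      group
    rw [h1]
    exact mul_mem (inv_mem (h j hj)) (conj_mem (hJW hj) (mul_mem (conj_mem hw hv) (inv_mem hv)))

/-- `[J, O(N(W))] ≤ W` -/
theorem comm_core' {R J W H : Subgroup G} (hR : IsElementaryAbelian 2 R) (hR4 : Nat.card ↥R = 4)
    (hH : J ⊔ W = H) (hcore : core H = W) (hJW : J ≤ normalizer (W : Set G))
    (hcent : ∀ r ∈ R, r ≠ 1 → centralizer ({r} : Set G) ≤ normalizer (W : Set G))
    (hck : ∀ r ∈ R, r ≠ 1 → ∀ w ∈ core (centralizer ({r} : Set G)), ∀ j ∈ J, ⁅j, w⁆ ∈ W) :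
    ∀ w ∈ core (normalizer (W : Set G)), ∀ j ∈ J, ⁅j, w⁆ ∈ W := by
  have hp : Fact (Nat.Prime 2) := ⟨Nat.prime_two⟩
  obtain ⟨M, hM⟩ : ∃ M, M = normalizer (W : Set G) := ⟨_, rfl⟩
  have hR1 : R ≠ ⊥ := by
    rintro rfl
    rw [card_bot] at hR4
    omega
  have hRM : R ≤ normalizer (W : Set G) := by
    intro r hr
    by_cases h1 : r = 1
    · rw [h1]; exact one_mem _
    · exact hcent r hr h1 (mem_c rfl)
  have key : core (normalizer (W : Set G)) ≤ fix ⊤ H := by
    have hodd := odd_card_core (normalizer (W : Set G))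
    have hN2 : ¬ 2 ∣ Nat.card ↥(core (normalizer (W : Set G))) := by
      rwa [← even_iff_two_dvd, Nat.not_even_iff_odd]
    rw [← Lib.CoprimeHyperplane.iSup_centralizer_hyperplane hR hR1 hN2
      (hRM.trans (le_normalizer_core _))]
    refine iSup_le fun B => ?_
    obtain ⟨B, hBR, hB⟩ := B
    have hB1 : B ≠ ⊥ := by
      rintro rfl
      rw [relIndex_bot_left] at hB
      omega
    obtain ⟨r, hr, h1⟩ := (Subgroup.bot_or_exists_ne_one B).resolve_left hB1
    rintro w ⟨hw, hwB⟩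
    have hwr : w ∈ centralizer ({r} : Set G) := mem_c (mem_centralizer_iff.mp hwB r hr).symm
    have hcr := hcent r (hBR hr) h1
    have hwc : w ∈ core (centralizer ({r} : Set G)) := by
      have h2 : core (normalizer (W : Set G)) ⊓ centralizer ({r} : Set G) ≤
          core (centralizer ({r} : Set G)) := by
        refine le_core inf_le_right ?_ (Odd.of_dvd_nat hodd (card_dvd_of_le inf_le_left))
        intro z hz
        rw [mem_normalizer_iff_cj, cj_inf, cj_eq_self_of_mem hz,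
          mem_normalizer_iff_cj.mp (le_normalizer_core (normalizer (W : Set G)) (hcr hz))]
      exact h2 ⟨hw, hwr⟩
    exact ⟨trivial, fixes_of_comm' hH hcore hJW (hcr hwr) (hck r (hBR hr) h1 w hwc)⟩
  intro w hw j hj
  have h1 := inv_mem ((key hw).2.2 j (hH ▸ mem_sup_left hj))
  rwa [commutatorElement_inv, hcore] at h1

/-- no situation of Step 1 with `R₀` faithful on `N` -/
def Faith (G : Type u) [Group G] [Finite G] : Prop :=
  ∀ {x y : G} {R₀ J M N : Subgroup G} {Lr : G → Subgroup G}, M ≠ ⊤ → NSt x y R₀ J M N Lr →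
    (∀ r ∈ R₀, r ≠ 1 → ¬ Fixes r N) → False

/-- **the glue and Step 1** -/
theorem glue₁ (P : Pgl G) (TB : TwoBal G)
    (hB : ∀ v : G, orderOf v = 2 → HasBProperty ↥(centralizer ({v} : Set G))) (hK : Faith G)
    (S : TF x a t L) :
    ∃ W H : Subgroup G, core H = W ∧ L ⊔ W = H ∧ Fine W a L ∧ x ∈ M0 W H ∧ a ∈ K0 W H ∧
      t ∈ K0 W H ∧ FF W H a ∧ Pt W H ∧
      (∀ r ∈ zpowers a ⊔ zpowers t, r ≠ 1 → centralizer ({r} : Set G) ≤ normalizer (W : Set G)) ∧
      (normalizer (W : Set G) ≠ ⊤ → Cj W H ∧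
        ∀ u ∈ K0 W H, orderOf u = 2 → u * x = x * u → Gd x W H u) := by
  have hY : ∀ {x a t : G} {L : Subgroup G} {Lr : G → Subgroup G}, PR x a t L Lr → YJ x a t L :=
    fun S => YJP.yj P S
  obtain ⟨Lr, hPR⟩ := exists_PR S
  obtain ⟨s, A, hX⟩ := exists_fourX P hPR
  have haR : a ∈ zpowers a ⊔ zpowers t := mem_sup_left (mem_zpowers a)
  have ha1 := ne_one_of_order S.T.inva
  obtain ⟨W, h1, h2, h3, h4⟩ := glue_one P hPR (hY hPR) TB hB
  have hgd : Gd x W (L ⊔ W) a := ⟨L, S.T, h1, rfl⟩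
  have hx := hgd.x_mem
  have hpt := (WSupB.supply P S.T h3 rfl hx).1
  have hW : Wd ((zpowers a ⊔ zpowers t) ⊔ A) = W := by
    rw [← hX.toFour.Wd_r TB haR ha1 hX.AJ hX.sqA hX.cardA]
    exact h1.eq A (hX.AJ.trans (cen_le L t)) hX.sqA hX.cardA
  have hcent : ∀ r ∈ zpowers a ⊔ zpowers t, r ≠ 1 →
      centralizer ({r} : Set G) ≤ normalizer (W : Set G) := fun r hr hr1 =>
    hW ▸ hX.centralizer_le' TB hr hr1
  refine ⟨W, L ⊔ W, h3, rfl, h1, hx, hgd.mem_K0 h3, mem_K0_of_fixes h3 h1 rfl S.ta S.tL,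
    ff_of_fine h3 h1 rfl, hpt, hcent, fun hM => ?_⟩
  have comm : Cj W (L ⊔ W) := by
    have hH : cen L t ⊔ W = L ⊔ W := by
      refine le_antisymm (sup_le_sup_right (cen_le L t) W) (sup_le ?_ le_sup_right)
      have h5 := tri_le P hPR (hY hPR) TB hB hX haR ha1
      rw [hW, hPR.La] at h5
      exact h5
    have hJM : cen L t ≤ normalizer (W : Set G) := hW ▸ hX.J_le TB
    have hck : ∀ r ∈ zpowers a ⊔ zpowers t, r ≠ 1 → ∀ w ∈ core (centralizer ({r} : Set G)),
        ∀ j ∈ cen L t, ⁅j, w⁆ ∈ W := fun r hr hr1 =>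
      hW ▸ comm_core P hPR (hY hPR) TB hB hX hr hr1
    have hck' := comm_core' (el_of_sq hX.sqR) hX.cardR hH h3 hJM hcent hck
    obtain ⟨N, hN, hJN⟩ := exists_N' P hPR hcent
    obtain ⟨y, hNS⟩ := nst P hPR hx.1 hcent hN hJN
    by_cases hR : ∀ r ∈ zpowers a ⊔ zpowers t, r ≠ 1 → ¬ Fixes r N
    · exact (hK hM hNS hR).elim
    · push Not at hR
      obtain ⟨r, hr, hr1, hf⟩ := hR
      have hodd : Odd (Nat.card ↥W) := by
        have h5 := odd_card_core (L ⊔ W)
        rwa [h3] at h5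
      exact cj_of hPR h3 hH hodd hcent hck' hN hJN hr hr1 (hX.sqR r hr) hf
  exact ⟨comm, fun u hu ou hux => all' P TB hB hY hpt.toSys h3 comm hgd hu ou hux⟩

/-- **`W = 1` for all `TF`**, `G` simple -/
theorem bot_of [IsSimpleGroup G] (P : Pgl G) (TB : TwoBal G)
    (hB : ∀ v : G, orderOf v = 2 → HasBProperty ↥(centralizer ({v} : Set G))) (hcrit : WMany.Crit G)
    (hK : Faith G) (S : TF x a t L) : Fine ⊥ a L := by
  obtain ⟨W, H, h1, h2, h3, h4, h5, h6, h7, -, -, h8⟩ := glue₁ P TB hB hK S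
  by_cases hW : W = ⊥
  · exact hW ▸ h3
  · exfalso
    have hM : normalizer (W : Set G) ≠ ⊤ := by
      intro h
      have hn := Subgroup.normalizer_eq_top_iff.mp h
      rcases hn.eq_bot_or_eq_top with h9 | h9
      · exact hW h9
      · have h10 := odd_card_core H
        rw [h1, h9] at h10
        have h11 : 2 ∣ Nat.card ↥(⊤ : Subgroup G) := by
          have h12 := S.T.inva
          rw [Subgroup.card_top, ← h12]
          exact orderOf_dvd_natCard a
        exact (Nat.not_even_iff_odd.mpr h10) (even_iff_two_dvd.mpr h11)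
    obtain ⟨comm, gd⟩ := h8 hM
    exact WMany.false_of_gd P TB hcrit S.T h1 h2 hW h4 h5 h6 S.ot S.ne S.ta S.tx h7 gd comm

end Cfsg.Agent.UGT.Res.W1.Of
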