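import Cfsg.Agent.UGT.Res.KFacts
import Cfsg.Agent.UGT.Res.Base
import Cfsg.Agent.UGT.RedRB
import Cfsg.Agent.UGT.A9.LTwoFacts

/-!
# Step 1 of the world `W ≠ 1`: no alternating types of degree at least 13 (helper733's P4, typed by helper738)

`Pgl G`, `N` a 2-component of an arbitrary subgroup `M`, `x ∈ M ∩ N(N)` an involution, `y ∈ N ∩ O(C(x))` not
trivial on `N / O(N)`. Then `N / O(N)` is not alternating of odd degree at least 13.
-/

set_option autoImplicit false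

open Cfsg Subgroup Equiv Equiv.Perm
open Cfsg.Agent.SignalizersComponents Cfsg.Agent.Lib
open Cfsg.Agent.SignalizersComponents.IntrinsicBasic
open Cfsg.Agent.SignalizersComponents.IntrinsicIntr
open Cfsg.Agent.SignalizersComponents.PLayerAut
open Cfsg.Agent.Intrinsic.Basic Cfsg.Agent.Intrinsic.Cen Cfsg.Agent.Intrinsic.Diag
open Cfsg.Agent.McLLyComp.Act
open Cfsg.Agent.UGT.Triple Cfsg.Agent.UGT.LemG Cfsg.Agent.UGT.PumpGen
open Cfsg.Agent.UAlt Cfsg.Agent.UGT.Iface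
open Cfsg.Agent.UGT.RedAlt
open Cfsg.Agent.UGT.Res.KFacts (Pgl)
open scoped commutatorElement

namespace Cfsg.Agent.UGT.Res.W1.AltBig

section perm

variable {α : Type*} [Fintype α] [DecidableEq α] {S : Finset α}

/-- the number of fixed points of a part `ρ` of `σ` -/
theorem card_fix_part {σ ρ : Perm α} (hσσ : σ * σ = 1) (hρ : ∀ i, ρ i = i ∨ ρ i = σ i) :
    S.card + (fixIn S σ).card = (fixIn S ρ).card + (fixIn S (σ * ρ)).card := by
  have hσ' : ∀ j, σ (σ j) = j := fun j => by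
    have := congrArg (fun f : Perm α => f j) hσσ
    simpa using this
  have h1 : fixIn S ρ ∪ fixIn S (σ * ρ) = S := by
    ext j
    simp only [Finset.mem_union, mem_fixIn, Perm.mul_apply]
    constructor
    · rintro (h | h)
      · exact h.1
      · exact h.1
    · intro hj
      rcases hρ j with h | h
      · exact Or.inl ⟨hj, h⟩
      · exact Or.inr ⟨hj, by rw [h, hσ']⟩
  have h2 : fixIn S ρ ∩ fixIn S (σ * ρ) = fixIn S σ := by
    ext j
    simp only [Finset.mem_inter, mem_fixIn, Perm.mul_apply]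
    constructor
    · rintro ⟨⟨h1, h2⟩, -, h3⟩
      rw [h2] at h3
      exact ⟨h1, h3⟩
    · rintro ⟨h1, h2⟩
      have h3 : ρ j = j := by
        rcases hρ j with h | h
        · exact h
        · rw [h, h2]
      exact ⟨⟨h1, h3⟩, h1, by rw [h3, h2]⟩
  rw [← Finset.card_union_add_card_inter (fixIn S ρ), h1, h2]

/-- a permutation of `Fix ρ` commuting with `σ` but not with `τ ∈ Alt(Fix σ)` -/
theorem exists_upsilon {σ ρ τ : Perm α} (hσS : σ ∈ sym S) (hσσ : σ * σ = 1)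
    (hρ : ∀ i, ρ i = i ∨ ρ i = σ i) (hc : σ * ρ = ρ * σ) (hlt : (fixIn S σ).card < (fixIn S ρ).card)
    (hτ : τ ∈ alt (fixIn S σ)) (hτ1 : τ ≠ 1) (hodd : Odd (orderOf τ)) :
    ∃ υ ∈ alt (fixIn S ρ), σ * υ = υ * σ ∧ τ * υ ≠ υ * τ := by
  have hσ' : ∀ j, σ (σ j) = j := fun j => by
    have := congrArg (fun f : Perm α => f j) hσσ
    simpa using this
  have hc' : ∀ j, σ (ρ j) = ρ (σ j) := fun j => by
    have := congrArg (fun f : Perm α => f j) hc
    simpa using this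
  obtain ⟨a, ha⟩ : ∃ a, τ a ≠ a := by
    by_contra hcon
    push Not at hcon
    exact hτ1 (Equiv.ext hcon)
  have haF : a ∈ fixIn S σ := by
    by_contra h
    exact ha (hτ.2 a h)
  have hbF : τ a ∈ fixIn S σ := mem_of_mem_sym (alt_le_sym _ hτ) haF
  obtain ⟨b, hb⟩ : ∃ b, b = τ a := ⟨_, rfl⟩
  rw [← hb] at ha hbF
  obtain ⟨j, hjR, hjF⟩ := Finset.exists_mem_notMem_of_card_lt_card hlt
  have hjS := (mem_fixIn.mp hjR).1
  have hj : σ j ≠ j := fun h => hjF (mem_fixIn.mpr ⟨hjS, h⟩)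
  have haσ := (mem_fixIn.mp haF).2
  have hbσ := (mem_fixIn.mp hbF).2
  have hsub : ∀ i ∈ fixIn S σ, i ∈ fixIn S ρ := by
    intro i hi
    rw [mem_fixIn] at hi ⊢
    refine ⟨hi.1, ?_⟩
    rcases hρ i with h | h
    · exact h
    · rw [h, hi.2]
  have hσjR : σ j ∈ fixIn S ρ := by
    rw [mem_fixIn]
    exact ⟨mem_of_mem_sym hσS hjS, by rw [← hc', (mem_fixIn.mp hjR).2]⟩
  have hbj : b ≠ j := by
    rintro rfl
    exact hj hbσ
  have hbσj : b ≠ σ j := by
    intro h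
    apply hj
    rw [h, hσ'] at hbσ
    exact hbσ.symm
  have haj : a ≠ j := by
    rintro rfl
    exact hj haσ
  have haσj : a ≠ σ j := by
    intro h
    apply hj
    rw [h, hσ'] at haσ
    exact haσ.symm
  refine ⟨swap a b * swap j (σ j), ⟨?_, ?_⟩, ?_, ?_⟩
  · refine Perm.mem_alternatingGroup.mpr ?_
    rw [Perm.sign_mul, Perm.sign_swap (Ne.symm ha), Perm.sign_swap (Ne.symm hj)]
    decide
  · intro i hi
    rw [Perm.mul_apply, swap_apply_of_ne_of_ne (x := i) (a := j) (b := σ j), swap_apply_of_ne_of_ne]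
    · rintro rfl; exact hi (hsub _ haF)
    · rintro rfl; exact hi (hsub _ hbF)
    · rintro rfl; exact hi hjR
    · rintro rfl; exact hi hσjR
  · calc σ * (swap a b * swap j (σ j)) = (σ * swap a b) * swap j (σ j) := by group
      _ = swap a b * (σ * swap j (σ j)) := by rw [mul_swap_eq_swap_mul σ a b, haσ, hbσ, mul_assoc]
      _ = swap a b * (swap j (σ j) * σ) := by rw [mul_swap_eq_swap_mul, hσ', swap_comm (σ j) j]
      _ = _ := by group
  · intro h
    have h1 : τ b = a := by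
      have h2 := congrArg (fun f : Perm α => f a) h
      simp only [Perm.mul_apply] at h2
      rwa [swap_apply_of_ne_of_ne haj haσj, swap_apply_left, ← hb, swap_apply_of_ne_of_ne hbj hbσj,
        swap_apply_right] at h2
    have h2 : ∀ k : ℕ, (τ ^ (2 * k)) a = a := by
      intro k
      induction k with
      | zero => simp
      | succ k ih =>
        rw [show 2 * (k + 1) = 2 * k + 1 + 1 by ring, pow_succ, pow_succ, Perm.mul_apply, Perm.mul_apply, ← hb,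
          h1, ih]
    obtain ⟨k, hk⟩ := hodd
    have h3 : (τ ^ orderOf τ) a = a := by rw [pow_orderOf_eq_one]; rfl
    rw [hk, pow_succ', Perm.mul_apply, h2, ← hb] at h3
    exact ha h3

end perm

variable {G : Type*} [Group G] [Finite G] {α : Type*} [Fintype α] [DecidableEq α]
  {x y : G} {M N : Subgroup G} {S : Finset α}

/-- as `RedAlt.three_fix` -/
theorem three_fix_of (Mo : Mod N S) (hx : orderOf x = 2) (hxN : x ∈ normalizer (N : Set G)) (hyN : y ∈ N)
    (hy : y ∈ core (centralizer ({x} : Set G))) (hf : ¬ Fixes y N) :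
    (fixIn S (Mo.φ x)).card = 3 ∧
      ∀ d ∈ core (centralizer ({x} : Set G)) ⊓ N, Mo.φ d ∈ alt (fixIn S (Mo.φ x)) := by
  have hx2 := sq_of_order hx
  obtain ⟨σ, hσ⟩ : ∃ σ, σ = Mo.φ x := ⟨_, rfl⟩
  rw [← hσ]
  obtain ⟨D, hDdef⟩ : ∃ D, D = core (centralizer ({x} : Set G)) ⊓ N := ⟨_, rfl⟩
  rw [← hDdef]
  have hDL : ∀ d ∈ D, d ∈ normalizer (N : Set G) := fun d hd => le_normalizer (by
    rw [hDdef] at hd
    exact hd.2)
  have hDodd : Odd (Nat.card D) := by
    rw [hDdef]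
    exact Odd.of_dvd_nat (odd_card_core (centralizer ({x} : Set G))) (card_dvd_of_le inf_le_left)
  have hDn : N ⊓ centralizer ({x} : Set G) ≤ normalizer (D : Set G) := by
    intro g hg
    have h1 : g ∈ normalizer (core (centralizer ({x} : Set G)) : Set G) := le_normalizer_core _ hg.2
    have h2 : g ∈ normalizer (N : Set G) := le_normalizer hg.1
    rw [mem_normalizer_iff_cj] at h1 h2 ⊢
    rw [hDdef, cj_inf, h1, h2]
  -- the image
  obtain ⟨E, hE⟩ : ∃ E : Subgroup (Perm α), ∀ e, e ∈ E ↔ ∃ d ∈ D, Mo.φ d = e := by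
    refine ⟨(D.subgroupOf (normalizer (N : Set G))).map Mo.hom, fun e => ?_⟩
    constructor
    · rintro ⟨y, hy, rfl⟩
      exact ⟨y, hy, rfl⟩
    · rintro ⟨d, hd, rfl⟩
      exact ⟨⟨d, hDL d hd⟩, hd, rfl⟩
  have hEodd : Odd (Nat.card E) := by
    let f : D → E := fun d => ⟨Mo.φ d, (hE _).2 ⟨d, d.2, rfl⟩⟩
    let g : ↥D →* ↥E :=
      { toFun := f
        map_one' := Subtype.ext Mo.one
        map_mul' := fun p q => Subtype.ext (Mo.mul p q (hDL p p.2) (hDL q q.2)) }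
    have hg : Function.Surjective g := by
      rintro ⟨e, he⟩
      obtain ⟨d, hd, rfl⟩ := (hE e).1 he
      exact ⟨⟨d, hd⟩, rfl⟩
    exact Odd.of_dvd_nat hDodd (Subgroup.card_dvd_of_surjective g hg)
  have hES : E ≤ sym S := by
    intro e he
    obtain ⟨d, hd, rfl⟩ := (hE e).1 he
    exact Mo.mem_sym d (hDL d hd)
  have hEc : E ≤ centralizer ({σ} : Set (Perm α)) := by
    intro e he
    obtain ⟨d, hd, rfl⟩ := (hE e).1 he
    have h1 : d * x = x * d := comm_c (core_le _ (by rw [hDdef] at hd; exact hd.1))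
    rw [hσ]
    exact mem_centralizer_singleton_iff.mpr (Mo.comm (hDL d hd) hxN h1)
  have hEn : alt S ⊓ centralizer ({σ} : Set (Perm α)) ≤ normalizer (E : Set (Perm α)) := by
    have key : ∀ τ ∈ alt S ⊓ centralizer ({σ} : Set (Perm α)), ∀ e ∈ E, τ * e * τ⁻¹ ∈ E := by
      intro τ hτ e he
      obtain ⟨d, hd, rfl⟩ := (hE e).1 he
      obtain ⟨l, hl, hxl, rfl⟩ := Mo.exists_comm_lift hxN (n := 1) (by rw [pow_one, pow_two, hx2]) hτ.1
        (by rw [← hσ]; exact (mem_centralizer_singleton_iff.mp hτ.2).symm)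
      refine (hE _).2 ⟨l * d * l⁻¹, ?_, Mo.conj (le_normalizer hl) (hDL d hd)⟩
      exact (mem_normalizer_iff.mp (hDn ⟨hl, mem_c hxl.symm⟩) d).mp hd
    intro τ hτ
    rw [mem_normalizer_iff]
    intro e
    refine ⟨key τ hτ e, fun h => ?_⟩
    have h1 := key τ⁻¹ (inv_mem hτ) _ h
    convert h1 using 1
    group
  have hcore := le_core_alt hEodd hES hEc hEn
  have hσS : σ ∈ sym S := hσ ▸ Mo.mem_sym x hxN
  have hσσ : σ * σ = 1 := hσ ▸ Mo.sq hxN hx2
  constructor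
  · by_contra h3
    rw [core_cent hσS hσσ h3, le_bot_iff] at hcore
    apply hf
    have h4 : Mo.φ y ∈ E := (hE _).2 ⟨y, by rw [hDdef]; exact ⟨hy, hyN⟩, rfl⟩
    rw [hcore, mem_bot] at h4
    exact (Mo.fixes_iff (le_normalizer hyN)).mp h4
  · intro d hd
    exact (core_cent_le hσS hσσ) (hcore ((hE _).2 ⟨d, hd, rfl⟩))

/-- elements of `N(N)` commuting with `z` normalise `cmp z` -/
theorem mem_normalizer_cmp (Mo : Mod N S) {z g : G} (hz : z ∈ normalizer (N : Set G)) (hzz : z * z = 1)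
    (h5 : 5 ≤ (fixIn S (Mo.φ z)).card) (hg : g ∈ normalizer (N : Set G)) (hgz : g * z = z * g) :
    g ∈ normalizer (Mo.cmp z : Set G) := by
  have h1 := Mo.isComp_cmp hz hzz h5
  have h2 := h1.cj g
  have h3 : cj g (N ⊓ centralizer ({z} : Set G)) = N ⊓ centralizer ({z} : Set G) := by
    rw [cj_inf, cj_centralizer, mem_normalizer_iff_cj.mp hg, hgz, mul_inv_cancel_right]
  rw [h3] at h2
  rw [mem_normalizer_iff_cj]
  exact ((Mo.isComp_iff_cmp hz hzz).mp h2).1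

end Cfsg.Agent.UGT.Res.W1.AltBig

namespace Cfsg.Agent.UGT.Res.W1

open AltBig

universe u

/-- **(Alt13)** -/
theorem alt13 {G : Type u} [Group G] [Finite G] (H : Pgl G) {x y : G} {M N : Subgroup G} (hN : IsComp M N)
    (hx : orderOf x = 2) (hxN : x ∈ normalizer (N : Set G)) (hyN : y ∈ N)
    (hy : y ∈ core (centralizer ({x} : Set G))) (hf : ¬ Fixes y N) {n : ℕ} (h13 : 13 ≤ n) :
    ¬ IsAlt n (Bar N) := by
  intro hA
  obtain ⟨Mo⟩ := RedRB.exists_mod (by omega) hA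
  obtain ⟨S, hS⟩ : ∃ S : Finset (Fin n), S = Finset.univ := ⟨_, rfl⟩
  rw [← hS] at Mo
  have hcard : S.card = n := by rw [hS, Finset.card_univ, Fintype.card_fin]
  have hxx := sq_of_order hx
  obtain ⟨h3, hD⟩ := three_fix_of Mo hx hxN hyN hy hf
  have hσS := Mo.mem_sym x hxN
  have hσσ := Mo.sq hxN hxx
  obtain ⟨ρ, hρS, hρ, hρρ, hc, hρ1, -, h7⟩ := exists_rho hσS hσσ h3 (by omega)
  have hcρ := card_fix_part (S := S) hσσ hρ
  obtain ⟨z, hzN, hzz, hxz, hφz⟩ := Mo.exists_inv_lift hxN (n := 1) (by rw [pow_one, pow_two, hxx]) hρS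
    hρρ hc
  have hzN' : z ∈ normalizer (N : Set G) := le_normalizer hzN
  have hz1 : z ≠ 1 := by
    rintro rfl
    rw [Mo.one] at hφz
    exact hρ1 hφz.symm
  have hoz : orderOf z = 2 := orderOf_eq_prime (by rw [pow_two, hzz]) hz1
  have h9 : 9 ≤ (fixIn S (Mo.φ z)).card := by
    rw [hφz]; omega
  have hI := Mo.isComp_cmp_of hN hzN' hzz (by omega)
  obtain ⟨M', hM'⟩ := Mo.exists_cmp hzN' hzz (by omega)
  -- `y₁ = y o` commutes with `z`
  obtain ⟨F, hF⟩ : ∃ F, F = core (centralizer ({x} : Set G)) ⊓ core N := ⟨_, rfl⟩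
  have hFodd : Odd (Nat.card F) := by
    rw [hF]
    exact Odd.of_dvd_nat (odd_card_core (centralizer ({x} : Set G))) (card_dvd_of_le inf_le_left)
  have hzx : z ∈ centralizer ({x} : Set G) := mem_c hxz.symm
  have hzF : z ∈ normalizer (F : Set G) := by
    have h1 := le_normalizer_core _ hzx
    have h2 := le_normalizer_core _ hzN
    rw [mem_normalizer_iff_cj] at h1 h2 ⊢
    rw [hF, cj_inf, h1, h2]
  have hyN' : y ∈ normalizer (N : Set G) := le_normalizer hyN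
  have hφy : Mo.φ y ∈ alt (fixIn S (Mo.φ x)) := hD y ⟨hy, hyN⟩
  have hzyN : z * y * z⁻¹ ∈ N := mul_mem (mul_mem hzN hyN) (inv_mem hzN)
  have hmem : y⁻¹ * (z * y * z⁻¹) ∈ F := by
    rw [hF, mem_inf]
    refine ⟨mul_mem (inv_mem hy) (conj_core hzx hy), ?_⟩
    rw [← Mo.eq_iff hyN hzyN, Mo.conj hzN' hyN', hφz, ← comm_of_fix hρ hφy, mul_inv_cancel_right]
  obtain ⟨o, ho, hzo⟩ := Intrinsic.Lifting.exists_commute (n := 1) hFodd
    (by rw [pow_one, pow_two, hzz]) hzF hmem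
  obtain ⟨y₁, hy₁⟩ : ∃ y₁, y₁ = y * o := ⟨_, rfl⟩
  rw [← hy₁] at hzo
  rw [hF] at ho
  have hy₁N : y₁ ∈ N := hy₁ ▸ mul_mem hyN (core_le _ ho.2)
  have hy₁x : y₁ ∈ core (centralizer ({x} : Set G)) := hy₁ ▸ mul_mem hy ho.1
  have hφ₁ : Mo.φ y₁ = Mo.φ y := by
    rw [hy₁, Mo.mul _ _ hyN' (le_normalizer (core_le _ ho.2)), (Mo.core_iff o (core_le _ ho.2)).mpr ho.2,
      mul_one]
  obtain ⟨τ, hτ⟩ : ∃ τ, τ = Mo.φ y₁ := ⟨_, rfl⟩
  have hτF : τ ∈ alt (fixIn S (Mo.φ x)) := by rw [hτ, hφ₁]; exact hφy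
  have hτ1 : τ ≠ 1 := by
    rw [hτ, hφ₁]
    exact fun h => hf ((Mo.fixes_iff hyN').mp h)
  have hτodd : Odd (orderOf τ) := by
    have h1 : Odd (orderOf y₁) := by
      have h4 := orderOf_dvd_natCard (⟨y₁, hy₁x⟩ : ↥(core (centralizer ({x} : Set G))))
      rw [Subgroup.orderOf_mk] at h4
      exact Odd.of_dvd_nat (odd_card_core _) h4
    refine Odd.of_dvd_nat h1 (orderOf_dvd_of_pow_eq_one ?_)
    rw [hτ, ← Mo.pow (le_normalizer hy₁N), pow_orderOf_eq_one, Mo.one]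
  obtain ⟨υ, hυ, hσυ, hτυ⟩ := exists_upsilon hσS hσσ hρ hc (by rw [h3]; omega) hτF hτ1 hτodd
  rw [← hφz] at hυ
  -- lift of `υ`
  have hxI : x ∈ normalizer (Mo.cmp z : Set G) := mem_normalizer_cmp Mo hzN' hzz (by omega) hxN hxz
  have hy₁I : y₁ ∈ normalizer (Mo.cmp z : Set G) :=
    mem_normalizer_cmp Mo hzN' hzz (by omega) (le_normalizer hy₁N) hzo.symm
  have hcompat : ∀ i ∈ fixIn S (Mo.φ z), M'.φ x i = Mo.φ x i := fun i hi =>
    Mod.compat Mo M' (Mo.cmp_le z) hM' hxN hxI hi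
  have hυc : M'.φ x * υ = υ * M'.φ x := by
    ext i
    rw [Perm.mul_apply, Perm.mul_apply]
    by_cases hi : i ∈ fixIn S (Mo.φ z)
    · rw [hcompat i hi, hcompat _ (mem_of_mem_sym (alt_le_sym _ hυ) hi)]
      exact congrArg Fin.val (congrArg (fun f : Perm (Fin n) => f i) hσυ)
    · rw [hυ.2 i hi, M'.mem_sym x hxI i hi, hυ.2 i hi]
  obtain ⟨w, hwI, hxw, hφw⟩ := M'.exists_comm_lift hxI (n := 1) (by rw [pow_one, pow_two, hxx]) hυ hυc
  -- `y₂ = [y₁, w]`
  obtain ⟨y₂, hy₂⟩ : ∃ y₂, y₂ = y₁ * w * y₁⁻¹ * w⁻¹ := ⟨_, rfl⟩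
  have hy₂I : y₂ ∈ Mo.cmp z := by
    rw [hy₂]
    exact mul_mem ((mem_normalizer_iff.mp hy₁I w).mp hwI) (inv_mem hwI)
  have hy₂x : y₂ ∈ core (centralizer ({x} : Set G)) := by
    rw [hy₂, mul_assoc, mul_assoc, ← mul_assoc w]
    exact mul_mem hy₁x (conj_core (mem_c hxw.symm) (inv_mem hy₁x))
  have hy₂f : ¬ Fixes y₂ (Mo.cmp z) := by
    rw [← M'.fixes_iff (le_normalizer hy₂I), hM' _ hy₂I]
    intro h
    have hwN := le_normalizer (H := N) (Mo.cmp_le z hwI)
    have hy₁N' := le_normalizer (H := N) hy₁N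
    rw [hy₂, Mo.mul _ _ (mul_mem (mul_mem hy₁N' hwN) (inv_mem hy₁N')) (inv_mem hwN), Mo.conj hy₁N' hwN,
      Mo.inv hwN, mul_inv_eq_one, mul_inv_eq_iff_eq_mul, ← hM' w hwI, hφw, ← hτ] at h
    exact hτυ h
  have hy₂z : y₂ ∈ centralizer ({z} : Set G) := mem_c (Mo.cmp_comm hy₂I).symm
  -- the triple
  have hn : y₂ ∉ core (centralizer ({z} : Set G)) := by
    intro h
    apply hy₂f
    apply hI.fixes_of_core
    have h1 : core (centralizer ({z} : Set G)) ⊓ M ≤ core (M ⊓ centralizer ({z} : Set G)) := by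
      refine le_core (le_inf inf_le_right (inf_le_left.trans (core_le _))) ?_ ?_
      · intro g hg
        have h1 := le_normalizer_core _ hg.2
        have h2 : g ∈ normalizer (M : Set G) := le_normalizer hg.1
        rw [mem_normalizer_iff_cj] at h1 h2 ⊢
        rw [cj_inf, h1, h2]
      · exact Odd.of_dvd_nat (odd_card_core (centralizer ({z} : Set G))) (card_dvd_of_le inf_le_left)
    exact h1 ⟨h, (hI.le hy₂I).1⟩
  obtain ⟨J, T, hJ⟩ := Res.Base.exists_triple hx hoz hxz.symm hy₂x hy₂z hn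
  -- `I` normalises `J`
  obtain ⟨Q, hQ⟩ : ∃ Q : Subgroup G, ∀ g, g ∈ Q ↔ g ∈ M ⊓ centralizer ({z} : Set G) ∧
      ∀ K, IsComp (centralizer ({z} : Set G)) K → g ∈ normalizer (K : Set G) :=
    ⟨{ carrier := {g | g ∈ M ⊓ centralizer ({z} : Set G) ∧
        ∀ K, IsComp (centralizer ({z} : Set G)) K → g ∈ normalizer (K : Set G)}
       one_mem' := ⟨one_mem _, fun _ _ => one_mem _⟩
       mul_mem' := fun ha hb => ⟨mul_mem ha.1 hb.1, fun K hK => mul_mem (ha.2 K hK) (hb.2 K hK)⟩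
       inv_mem' := fun ha => ⟨inv_mem ha.1, fun K hK => inv_mem (ha.2 K hK)⟩ }, fun g => Iff.rfl⟩
  have hQle : Q ≤ M ⊓ centralizer ({z} : Set G) := fun g hg => ((hQ g).mp hg).1
  have hQn : M ⊓ centralizer ({z} : Set G) ≤ normalizer (Q : Set G) := by
    have key : ∀ h ∈ M ⊓ centralizer ({z} : Set G), ∀ g ∈ Q, h * g * h⁻¹ ∈ Q := by
      intro h hh g hg
      rw [hQ] at hg ⊢
      refine ⟨mul_mem (mul_mem hh hg.1) (inv_mem hh), fun K hK => ?_⟩
      have h1 := hg.2 _ (isComp_cj_of_mem hK (inv_mem hh.2))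
      rw [mem_normalizer_iff_cj] at h1 ⊢
      rw [IntrinsicBasic.cj_mul, IntrinsicBasic.cj_mul, h1]
      exact cj_cj_inv h K
    intro h hh
    rw [mem_normalizer_iff]
    intro g
    refine ⟨key h hh g, fun h1 => ?_⟩
    have h2 := key h⁻¹ (inv_mem hh) _ h1
    convert h2 using 1
    group
  have hIQ : Mo.cmp z ≤ Q := by
    by_contra hcon
    refine hy₂f (hI.fixes_of_subnormal hQle ?_ hcon ?_)
    · exact (normal_subgroupOf_of_le_normalizer hQn).isSubnormal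
    · rw [hQ]
      exact ⟨hI.le hy₂I, fun K hK => mem_normalizer hK (mem_c hxz) hx (inf_le_core hy₂x hy₂z)⟩
  have hIJ : Mo.cmp z ≤ normalizer (J : Set G) := fun g hg => ((hQ g).mp (hIQ hg)).2 J T.comp
  exact hJ (A9.LTwo.l2_fixes_of_mod (H x z J T).1 M' (by omega) hI.pElem_eq hIJ _ hy₂I)

end Cfsg.Agent.UGT.Res.W1
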