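import Cfsg.Agent.UGT.Res.W1.Defs
import Cfsg.Agent.UGT.RedAlt
import Cfsg.Agent.UAlt.AutFive

/-!
# `KCfg` is impossible for the alternating groups of degree 7, 9, 11

`α ρ`, `ρ ∈ R`, all fix exactly the support of the 3-cycle `y`. On the other `n - 3 ≤ 8` points some `r ∈ R#` has no
fixed point (`exists_fpf`), so the perfect group `J ≤ C(r)` acts on the support of `y`.
-/

set_option autoImplicit false
set_option linter.unusedSectionVars false

open Cfsg Subgroup Equiv Equiv.Perm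
open Cfsg.Agent.SignalizersComponents Cfsg.Agent.Lib
open Cfsg.Agent.SignalizersComponents.IntrinsicBasic
open Cfsg.Agent.Intrinsic.Basic Cfsg.Agent.Intrinsic.Cen Cfsg.Agent.Intrinsic.Diag
open Cfsg.Agent.UAlt Cfsg.Agent.UGT.Iface
open scoped commutatorElement

namespace Cfsg.Agent.UGT.Res.W1.KAlt

/-! ### Permutations -/

section Perms

variable {ι : Type*} [Fintype ι] [DecidableEq ι]

theorem four_le {S : Finset ι} {s v : Perm ι} {x : ι} (hx : x ∈ S) (h1 : v x ∈ S) (h2 : s x ∈ S)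
    (h3 : s (v x) ∈ S) (ss : ∀ i, s (s i) = i) (n1 : v x ≠ x) (n2 : s x ≠ x) (n3 : s (v x) ≠ x)
    (n4 : s (v x) ≠ v x) : 4 ≤ S.card := by
  have d1 : x ≠ v x := n1.symm
  have d2 : x ≠ s x := n2.symm
  have d3 : x ≠ s (v x) := n3.symm
  have d4 : v x ≠ s x := fun h => n3 (by rw [h, ss])
  have d5 : v x ≠ s (v x) := n4.symm
  have d6 : s x ≠ s (v x) := fun h => n1 (s.injective h).symm
  have e1 : ({x, v x, s x, s (v x)} : Finset ι).card = 4 := by
    rw [Finset.card_insert_of_notMem, Finset.card_insert_of_notMem, Finset.card_insert_of_notMem,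
      Finset.card_singleton]
    · simp [d6]
    · simp [d4, d5]
    · simp [d1, d2, d3]
  rw [← e1]
  apply Finset.card_le_card
  intro i hi
  simp only [Finset.mem_insert, Finset.mem_singleton] at hi
  rcases hi with rfl | rfl | rfl | rfl <;> assumption

/-- `a`, `b`, `s` commuting involutions of `W`, `|W| ≤ 8`, such that `s`, `s a`, `s b`, `s a b` have no fixed points
in `W` and `a`, `b`, `a b` are not trivial: one of `a`, `b`, `a b` has no fixed point in `W`. -/
theorem exists_fpf {W : Finset ι} (hW : W.card ≤ 8) {s a b : Perm ι} (aa : ∀ i, a (a i) = i)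
    (bb : ∀ i, b (b i) = i) (ss : ∀ i, s (s i) = i) (ab : ∀ i, a (b i) = b (a i))
    (sa : ∀ i, s (a i) = a (s i)) (sb : ∀ i, s (b i) = b (s i)) (a1 : ∃ i ∈ W, a i ≠ i)
    (b1 : ∃ i ∈ W, b i ≠ i) (c1 : ∃ i ∈ W, a (b i) ≠ i)
    (Wa : ∀ i ∈ W, a i ∈ W) (Wb : ∀ i ∈ W, b i ∈ W) (Ws : ∀ i ∈ W, s i ∈ W)
    (n0 : ∀ i ∈ W, s i ≠ i) (na : ∀ i ∈ W, s (a i) ≠ i) (nb : ∀ i ∈ W, s (b i) ≠ i)
    (nab : ∀ i ∈ W, s (a (b i)) ≠ i) :
    (∀ i ∈ W, a i ≠ i) ∨ (∀ i ∈ W, b i ≠ i) ∨ ∀ i ∈ W, a (b i) ≠ i := by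
  by_contra hcon
  push Not at hcon
  obtain ⟨⟨p, hp, hap⟩, ⟨q, hq, hbq⟩, r, hr, hcr⟩ := hcon
  -- fixed points of `a b`
  have key : ∀ {i}, a (b i) = i → b i = a i := fun {i} h => by
    have := congrArg a h
    rw [aa] at this
    exact this
  by_cases hreg : ∃ w ∈ W, a w ≠ w ∧ b w ≠ w ∧ a (b w) ≠ w
  · -- a regular orbit
    obtain ⟨w, hw, h1, h2, h3⟩ := hreg
    have e1 : ({w, a w, b w, a (b w)} : Finset ι).card = 4 := by
      have d1 : w ≠ a w := h1.symm
      have d2 : w ≠ b w := h2.symm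
      have d3 : w ≠ a (b w) := h3.symm
      have d4 : a w ≠ b w := fun h => h3 (by rw [← h, aa])
      have d5 : a w ≠ a (b w) := fun h => h2 (a.injective h).symm
      have d6 : b w ≠ a (b w) := fun h => h1 (by rw [ab] at h; exact (b.injective h).symm)
      rw [Finset.card_insert_of_notMem, Finset.card_insert_of_notMem, Finset.card_insert_of_notMem,
        Finset.card_singleton]
      · simp [d6]
      · simp [d4, d5]
      · simp [d1, d2, d3]
    obtain ⟨T, hT⟩ : ∃ T : Finset ι, T = {w, a w, b w, a (b w)} := ⟨_, rfl⟩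
    rw [← hT] at e1
    have hTW : T ⊆ W := by
      intro i hi
      rw [hT] at hi
      simp only [Finset.mem_insert, Finset.mem_singleton] at hi
      rcases hi with rfl | rfl | rfl | rfl
      · exact hw
      · exact Wa _ hw
      · exact Wb _ hw
      · exact Wa _ (Wb _ hw)
    have hTa : ∀ i ∈ T, a i ≠ i := by
      intro i hi
      rw [hT] at hi
      simp only [Finset.mem_insert, Finset.mem_singleton] at hi
      rcases hi with rfl | rfl | rfl | rfl
      · exact h1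
      · rw [aa]; exact h1.symm
      · intro h; rw [ab] at h; exact h1 (b.injective h)
      · intro h; exact h1 (b.injective (by rw [← ab]; exact (a.injective h)))
    have mT : ∀ {i}, i ∈ T ↔ i = w ∨ i = a w ∨ i = b w ∨ i = a (b w) := fun {i} => by
      rw [hT]; simp only [Finset.mem_insert, Finset.mem_singleton]
    have hTA : ∀ i ∈ T, a i ∈ T := by
      intro i hi
      rw [mT] at hi ⊢
      rcases hi with rfl | rfl | rfl | rfl
      · exact Or.inr (Or.inl rfl)
      · rw [aa]; exact Or.inl rfl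
      · exact Or.inr (Or.inr (Or.inr rfl))
      · rw [aa]; exact Or.inr (Or.inr (Or.inl rfl))
    have hTB : ∀ i ∈ T, b i ∈ T := by
      intro i hi
      rw [mT] at hi ⊢
      rcases hi with rfl | rfl | rfl | rfl
      · exact Or.inr (Or.inr (Or.inl rfl))
      · rw [← ab]; exact Or.inr (Or.inr (Or.inr rfl))
      · rw [bb]; exact Or.inl rfl
      · rw [← ab, bb]; exact Or.inr (Or.inl rfl)
    have hsw : s w ∉ T := by
      intro h
      rw [mT] at h
      rcases h with h | h | h | h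
      · exact n0 w hw h
      · exact na w hw (by rw [sa, h, aa])
      · exact nb w hw (by rw [sb, h, bb])
      · exact nab w hw (by rw [sa, sb, h, ← ab, bb, aa])
    have hTs : ∀ i ∈ T, s i ∉ T := by
      intro i hi hsi
      apply hsw
      rw [mT] at hi
      rcases hi with rfl | rfl | rfl | rfl
      · exact hsi
      · have := hTA _ hsi
        rwa [sa, aa] at this
      · have := hTB _ hsi
        rwa [sb, bb] at this
      · have := hTB _ (hTA _ hsi)
        rwa [sa, aa, sb, bb] at this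
    have hT' : (T.image s).card = 4 := by rw [Finset.card_image_of_injective _ s.injective, e1]
    have hdisj : Disjoint T (T.image s) := by
      rw [Finset.disjoint_left]
      intro i hi hi'
      obtain ⟨j, hj, rfl⟩ := Finset.mem_image.1 hi'
      exact hTs j hj hi
    have hTW' : T.image s ⊆ W := by
      intro i hi
      obtain ⟨j, hj, rfl⟩ := Finset.mem_image.1 hi
      exact Ws j (hTW hj)
    have hU : T ∪ T.image s = W := by
      apply Finset.eq_of_subset_of_card_le (Finset.union_subset hTW hTW')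
      rw [Finset.card_union_of_disjoint hdisj, e1, hT']
      exact hW
    rw [← hU, Finset.mem_union] at hp
    rcases hp with hp | hp
    · exact hTa p hp hap
    · obtain ⟨j, hj, rfl⟩ := Finset.mem_image.1 hp
      rw [← sa] at hap
      exact hTa j hj (s.injective hap)
  · push Not at hreg
    -- the points fixed by exactly one of `a`, `b`, `a b`
    obtain ⟨A, hA⟩ : ∃ A : Finset ι, A = W.filter fun i => a i = i ∧ b i ≠ i := ⟨_, rfl⟩
    obtain ⟨B, hB⟩ : ∃ B : Finset ι, B = W.filter fun i => b i = i ∧ a i ≠ i := ⟨_, rfl⟩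
    obtain ⟨C, hC⟩ : ∃ C : Finset ι, C = W.filter fun i => a (b i) = i ∧ a i ≠ i := ⟨_, rfl⟩
    have mA : ∀ {i}, i ∈ A ↔ i ∈ W ∧ a i = i ∧ b i ≠ i := fun {i} => by rw [hA, Finset.mem_filter]
    have mB : ∀ {i}, i ∈ B ↔ i ∈ W ∧ b i = i ∧ a i ≠ i := fun {i} => by rw [hB, Finset.mem_filter]
    have mC : ∀ {i}, i ∈ C ↔ i ∈ W ∧ a (b i) = i ∧ a i ≠ i := fun {i} => by rw [hC, Finset.mem_filter]
    have cA : ∀ x ∈ A, 4 ≤ A.card := by
      intro x hx
      obtain ⟨h1, h2, h3⟩ := mA.1 hx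
      have hb : ∀ i ∈ A, b i ∈ A := fun i hi => by
        obtain ⟨h1, h2, h3⟩ := mA.1 hi
        exact mA.2 ⟨Wb i h1, by rw [ab, h2], by rw [bb]; exact h3.symm⟩
      have hs : ∀ i ∈ A, s i ∈ A := fun i hi => by
        obtain ⟨h1, h2, h3⟩ := mA.1 hi
        exact mA.2 ⟨Ws i h1, by rw [← sa, h2], by rw [← sb]; exact fun h => h3 (s.injective h)⟩
      exact four_le hx (hb x hx) (hs x hx) (hs _ (hb x hx)) ss h3 (n0 x h1) (nb x h1) (n0 _ (Wb x h1))
    have cB : ∀ x ∈ B, 4 ≤ B.card := by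
      intro x hx
      obtain ⟨h1, h2, h3⟩ := mB.1 hx
      have ha : ∀ i ∈ B, a i ∈ B := fun i hi => by
        obtain ⟨h1, h2, h3⟩ := mB.1 hi
        exact mB.2 ⟨Wa i h1, by rw [← ab, h2], by rw [aa]; exact h3.symm⟩
      have hs : ∀ i ∈ B, s i ∈ B := fun i hi => by
        obtain ⟨h1, h2, h3⟩ := mB.1 hi
        exact mB.2 ⟨Ws i h1, by rw [← sb, h2], by rw [← sa]; exact fun h => h3 (s.injective h)⟩
      exact four_le hx (ha x hx) (hs x hx) (hs _ (ha x hx)) ss h3 (n0 x h1) (na x h1) (n0 _ (Wa x h1))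
    have cC : ∀ x ∈ C, 4 ≤ C.card := by
      intro x hx
      obtain ⟨h1, h2, h3⟩ := mC.1 hx
      have ha : ∀ i ∈ C, a i ∈ C := fun i hi => by
        obtain ⟨h1, h2, h3⟩ := mC.1 hi
        exact mC.2 ⟨Wa i h1, by rw [← ab, h2], by rw [aa]; exact h3.symm⟩
      have hs : ∀ i ∈ C, s i ∈ C := fun i hi => by
        obtain ⟨h1, h2, h3⟩ := mC.1 hi
        exact mC.2 ⟨Ws i h1, by rw [← sb, ← sa, h2], by rw [← sa]; exact fun h => h3 (s.injective h)⟩
      exact four_le hx (ha x hx) (hs x hx) (hs _ (ha x hx)) ss h3 (n0 x h1) (na x h1) (n0 _ (Wa x h1))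
    have dAB : Disjoint A B := Finset.disjoint_left.2 fun i hi hi' => (mB.1 hi').2.2 (mA.1 hi).2.1
    have dAC : Disjoint A C := Finset.disjoint_left.2 fun i hi hi' => (mC.1 hi').2.2 (mA.1 hi).2.1
    have dBC : Disjoint B C := Finset.disjoint_left.2 fun i hi hi' => by
      have h1 := (mC.1 hi').2.1
      rw [(mB.1 hi).2.1] at h1
      exact (mC.1 hi').2.2 h1
    -- two nonempty sets cover `W`
    have cov : ∀ {X Y : Finset ι}, X ⊆ W → Y ⊆ W → Disjoint X Y → 4 ≤ X.card → 4 ≤ Y.card → ∀ i ∈ W, i ∈ X ∨ i ∈ Y := by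
      intro X Y hX hY hd h1 h2 i hi
      have hU : X ∪ Y = W := by
        apply Finset.eq_of_subset_of_card_le (Finset.union_subset hX hY)
        rw [Finset.card_union_of_disjoint hd]
        omega
      rw [← hU, Finset.mem_union] at hi
      exact hi
    have sA : A ⊆ W := fun i hi => (mA.1 hi).1
    have sB : B ⊆ W := fun i hi => (mB.1 hi).1
    have sC : C ⊆ W := fun i hi => (mC.1 hi).1
    obtain ⟨x, hx, hax⟩ := a1
    obtain ⟨y, hy, hby⟩ := b1
    obtain ⟨z, hz, hcz⟩ := c1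
    have kAB : ∀ {x y}, x ∈ A → y ∈ B → False := fun {x y} h1 h2 => by
      rcases cov sA sB dAB (cA _ h1) (cB _ h2) r hr with h | h
      · exact (mA.1 h).2.2 ((key hcr).trans (mA.1 h).2.1)
      · exact (mB.1 h).2.2 ((key hcr).symm.trans (mB.1 h).2.1)
    have kAC : ∀ {x y}, x ∈ A → y ∈ C → False := fun {x y} h1 h2 => by
      rcases cov sA sC dAC (cA _ h1) (cC _ h2) q hq with h | h
      · exact (mA.1 h).2.2 hbq
      · exact (mC.1 h).2.2 ((key (mC.1 h).2.1).symm.trans hbq)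
    have kBC : ∀ {x y}, x ∈ B → y ∈ C → False := fun {x y} h1 h2 => by
      rcases cov sB sC dBC (cB _ h1) (cC _ h2) p hp with h | h
      · exact (mB.1 h).2.2 hap
      · exact (mC.1 h).2.2 hap
    have hx' : x ∈ B ∨ x ∈ C := by
      by_cases h : b x = x
      · exact Or.inl (mB.2 ⟨hx, h, hax⟩)
      · exact Or.inr (mC.2 ⟨hx, hreg x hx hax h, hax⟩)
    have hy' : y ∈ A ∨ y ∈ C := by
      by_cases h : a y = y
      · exact Or.inl (mA.2 ⟨hy, h, hby⟩)
      · exact Or.inr (mC.2 ⟨hy, hreg y hy h hby, h⟩)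
    have hz' : z ∈ A ∨ z ∈ B := by
      by_cases h : a z = z
      · refine Or.inl (mA.2 ⟨hz, h, fun h' => hcz (by rw [h', h])⟩)
      · refine Or.inr (mB.2 ⟨hz, ?_, h⟩)
        by_contra h'
        exact hcz (hreg z hz h h')
    rcases hx' with h1 | h1 <;> rcases hy' with h2 | h2 <;> rcases hz' with h3 | h3
    · exact kAB h2 h1
    · exact kAB h2 h1
    · exact kBC h1 h2
    · exact kBC h1 h2
    · exact kAC h2 h1
    · exact kAC h2 h1
    · exact kAC h3 h1
    · exact kBC h3 h1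


theorem support_eq {g : Perm ι} {P : Finset ι} (h3 : P.card = 3) (hg : g ∈ alt P) (h1 : g ≠ 1) :
    g.support = P := by
  have hs : g.support ⊆ P := fun x hx => by
    by_contra h
    exact (Perm.mem_support.1 hx) (hg.2 x h)
  apply Finset.eq_of_subset_of_card_le hs
  rw [h3]
  have h2 : 2 ≤ g.support.card := Perm.two_le_card_support_of_ne_one h1
  by_contra h
  have h4 : g.support.card = 2 := by omega
  have h5 := (Perm.card_support_eq_two.1 h4).sign_eq
  have h6 : g ∈ alternatingGroup ι := hg.1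
  rw [Perm.mem_alternatingGroup, h5] at h6
  exact absurd h6 (by decide)

end Perms

theorem exists_two {X : Type*} [Group X] [Finite X] {A : Subgroup X} (h : Nat.card ↥A = 4) :
    ∃ a ∈ A, ∃ b ∈ A, a ≠ 1 ∧ b ≠ 1 ∧ a ≠ b := by
  have key : ∀ c : X, ∃ a ∈ A, a ≠ 1 ∧ a ≠ c := by
    intro c
    by_contra hcon
    push Not at hcon
    have h1 : (A : Set X) ⊆ {1, c} := by
      intro x hx
      by_cases hx1 : x = 1
      · exact Or.inl hx1
      · exact Or.inr (hcon x hx hx1)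
    have h2 := Set.ncard_le_ncard h1 (Set.toFinite _)
    have h3 : ({1, c} : Set X).ncard ≤ 2 := (Set.ncard_insert_le 1 {c}).trans (by rw [Set.ncard_singleton])
    have h4 : (A : Set X).ncard = 4 := by rw [← h]; exact (Nat.card_coe_set_eq _).symm
    omega
  obtain ⟨a, ha, ha1, -⟩ := key 1
  obtain ⟨b, hb, hb1, hba⟩ := key a
  exact ⟨a, ha, b, hb, ha1, hb1, hba.symm⟩

/-- **`Λ` is not alternating of degree 7, …, 11.** -/
theorem kalt {Λ : Type*} [Group Λ] [Finite Λ] {α : MulAut Λ} {R : Subgroup (MulAut Λ)} {J : Subgroup Λ} {y : Λ}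
    (K : KCfg α R J y) {n : ℕ} (h7 : 7 ≤ n) (h11 : n ≤ 11) : ¬ IsAlt n Λ := by
  classical
  rintro ⟨e⟩
  obtain ⟨ψ, hψ⟩ := AutFive.exists_autHom_fin n (by omega) (by omega)
  obtain ⟨Ψ, hΨ⟩ : ∃ Ψ : MulAut Λ →* Perm (Fin n), Ψ = ψ.comp (MulAut.congr e).toMonoidHom := ⟨_, rfl⟩
  obtain ⟨E, hEd⟩ : ∃ E : Λ →* Perm (Fin n), E = (alternatingGroup (Fin n)).subtype.comp e.toMonoidHom := ⟨_, rfl⟩
  have hEi : Function.Injective E := by
    rw [hEd]
    exact (subtype_injective _).comp e.injective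
  have hEs : ∀ σ ∈ alternatingGroup (Fin n), ∃ k, E k = σ := by
    intro σ hσ
    refine ⟨e.symm ⟨σ, hσ⟩, ?_⟩
    rw [hEd]
    show ((e (e.symm ⟨σ, hσ⟩) : alternatingGroup (Fin n)) : Perm (Fin n)) = σ
    rw [MulEquiv.apply_symm_apply]
  have hEm : ∀ k, E k ∈ alternatingGroup (Fin n) := by
    intro k
    rw [hEd]
    exact (e k).2
  have hE : ∀ (f : MulAut Λ) k, E (f k) = Ψ f * E k * (Ψ f)⁻¹ := by
    intro f k
    have h1 := hψ (MulAut.congr e f) (e k)
    have h2 : MulAut.congr e f (e k) = e (f k) := by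
      show e (f (e.symm (e k))) = e (f k)
      rw [MulEquiv.symm_apply_apply]
    rw [h2] at h1
    rw [hΨ, hEd]
    exact h1
  have hΨE : ∀ k, Ψ (MulAut.conj k) = E k := by
    intro k
    have h1 : ∀ σ ∈ alt (Finset.univ : Finset (Fin n)), ((Ψ (MulAut.conj k))⁻¹ * E k) * σ =
        σ * ((Ψ (MulAut.conj k))⁻¹ * E k) := by
      intro σ hσ
      rw [alt_univ] at hσ
      obtain ⟨k', rfl⟩ := hEs σ hσ
      have h2 := hE (MulAut.conj k) k'
      rw [MulAut.conj_apply, map_mul, map_mul, map_inv] at h2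
      have h3 : E k * E k' = Ψ (MulAut.conj k) * E k' * (Ψ (MulAut.conj k))⁻¹ * E k := by rw [← h2]; group
      rw [mul_assoc, h3]; group
    have h2 : (Ψ (MulAut.conj k))⁻¹ * E k = 1 := by
      ext i
      have := apply_of_comm_alt (S := (Finset.univ : Finset (Fin n))) (by
        rw [Finset.card_univ, Fintype.card_fin]; omega) h1 (Finset.mem_univ i)
      rw [this]; rfl
    exact (inv_mul_eq_one.1 h2)
  have hΨi : ∀ f, Ψ f = 1 → f = 1 := by
    intro f hf
    ext k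
    apply hEi
    rw [hE, hf, one_mul, inv_one, mul_one]
    rfl
  have hy1 : E y ≠ 1 := fun h => K.y1 (hEi (by rw [h, map_one]))
  -- the fixed points
  have hfix : ∀ ρ ∈ R, fixIn Finset.univ (Ψ (α * ρ)) = (E y).support ∧ (E y).support.card = 3 := by
    intro ρ hρ
    obtain ⟨D, hodd, hyD, hDc, hDn⟩ := K.unb ρ hρ
    obtain ⟨σ, hσ⟩ : ∃ σ, σ = Ψ (α * ρ) := ⟨_, rfl⟩
    rw [← hσ]
    have hσσ : σ * σ = 1 := by
      have h1 : α * ρ * (α * ρ) = 1 := by
        calc α * ρ * (α * ρ) = α * (ρ * α) * ρ := by group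
          _ = (α * α) * (ρ * ρ) := by rw [← K.comm ρ hρ]; group
          _ = 1 := by rw [K.sq, K.sqR ρ hρ, one_mul]
      rw [hσ, ← map_mul, h1, map_one]
    have hσS : σ ∈ sym (Finset.univ : Finset (Fin n)) := by rw [sym_univ]; exact mem_top σ
    have hD'odd : Odd (Nat.card (D.map Ψ)) := Odd.of_dvd_nat hodd (card_map_dvd _ _)
    have hD'c : D.map Ψ ≤ centralizer ({σ} : Set (Perm (Fin n))) := by
      rintro _ ⟨δ, hδ, rfl⟩
      rw [mem_centralizer_singleton_iff, hσ, ← map_mul, ← map_mul, hDc δ hδ]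
    have key : ∀ τ ∈ alt (Finset.univ : Finset (Fin n)) ⊓ centralizer ({σ} : Set (Perm (Fin n))),
        ∀ d ∈ D.map Ψ, τ * d * τ⁻¹ ∈ D.map Ψ := by
      rintro τ ⟨hτ, hτc⟩ _ ⟨δ, hδ, rfl⟩
      rw [alt_univ] at hτ
      obtain ⟨k, rfl⟩ := hEs τ hτ
      replace hτc : E k ∈ centralizer ({σ} : Set (Perm (Fin n))) := hτc
      rw [mem_centralizer_singleton_iff] at hτc
      have hk : (α * ρ) k = k := by
        apply hEi
        rw [hE, ← hσ, ← hτc, mul_inv_cancel_right]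
      refine ⟨_, hDn k hk δ hδ, ?_⟩
      rw [map_mul, map_mul, map_inv, hΨE]
    have hD'n : alt (Finset.univ : Finset (Fin n)) ⊓ centralizer ({σ} : Set (Perm (Fin n))) ≤
        normalizer (D.map Ψ : Set (Perm (Fin n))) := by
      intro τ hτ
      rw [mem_normalizer_iff]
      intro d
      refine ⟨key τ hτ d, fun h => ?_⟩
      have h1 := key τ⁻¹ (inv_mem hτ) _ h
      have h2 : τ⁻¹ * (τ * d * τ⁻¹) * τ⁻¹⁻¹ = d := by group
      rwa [h2] at h1
    have hcore := RedAlt.le_core_alt hD'odd (by rw [sym_univ]; exact le_top) hD'c hD'n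
    have hyc : E y ∈ core (alt (Finset.univ : Finset (Fin n)) ⊓ centralizer ({σ} : Set (Perm (Fin n)))) :=
      hcore ⟨MulAut.conj y, hyD, hΨE y⟩
    have h3 : (fixIn Finset.univ σ).card = 3 := by
      by_contra h3
      rw [core_cent hσS hσσ h3, mem_bot] at hyc
      exact hy1 hyc
    have h4 := support_eq h3 (core_cent_le hσS hσσ hyc) hy1
    exact ⟨h4.symm, by rw [h4, h3]⟩
  obtain ⟨P, hP⟩ : ∃ P : Finset (Fin n), P = (E y).support := ⟨_, rfl⟩
  have hP3 : P.card = 3 := by rw [hP]; exact (hfix 1 (one_mem R)).2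
  have hPf : ∀ ρ ∈ R, ∀ i, Ψ α (Ψ ρ i) = i ↔ i ∈ P := by
    intro ρ hρ i
    rw [hP, ← (hfix ρ hρ).1, mem_fixIn, map_mul, Perm.mul_apply]
    exact ⟨fun h => ⟨Finset.mem_univ i, h⟩, fun h => h.2⟩
  have app : ∀ {g h : Perm (Fin n)}, g * h = h * g → ∀ i, g (h i) = h (g i) := fun {g h} hgh i => by
    rw [← Perm.mul_apply, hgh, Perm.mul_apply]
  have app2 : ∀ {g : Perm (Fin n)}, g * g = 1 → ∀ i, g (g i) = i := fun {g} hg i => by
    rw [← Perm.mul_apply, hg, Perm.one_apply]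
  have hS0 : ∀ i, Ψ α i = i ↔ i ∈ P := by
    intro i
    have := hPf 1 (one_mem R) i
    rwa [map_one, Perm.one_apply] at this
  have hss : ∀ i, Ψ α (Ψ α i) = i := app2 (by rw [← map_mul, K.sq, map_one])
  have hρP : ∀ ρ ∈ R, ∀ i ∈ P, Ψ ρ i = i := by
    intro ρ hρ i hi
    have h1 := (hPf ρ hρ i).2 hi
    have h2 : Ψ α (Ψ α (Ψ ρ i)) = Ψ α i := by rw [h1]
    rwa [hss, (hS0 i).2 hi] at h2
  have hρρ : ∀ ρ ∈ R, ∀ i, Ψ ρ (Ψ ρ i) = i := fun ρ hρ => app2 (by rw [← map_mul, K.sqR ρ hρ, map_one])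
  have hρW : ∀ ρ ∈ R, ∀ i ∈ Pᶜ, Ψ ρ i ∈ Pᶜ := by
    intro ρ hρ i hi
    rw [Finset.mem_compl] at hi ⊢
    intro h
    have h1 := hρP ρ hρ _ h
    rw [hρρ ρ hρ] at h1
    rw [← h1] at h
    exact hi h
  have hsW : ∀ i ∈ Pᶜ, Ψ α i ∈ Pᶜ := by
    intro i hi
    rw [Finset.mem_compl] at hi ⊢
    intro h
    have h1 := (hS0 _).2 h
    rw [hss] at h1
    rw [← h1] at h
    exact hi h
  have hW : (Pᶜ : Finset (Fin n)).card ≤ 8 := by
    rw [Finset.card_compl, Fintype.card_fin, hP3]; omega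
  have hmv : ∀ ρ ∈ R, ρ ≠ 1 → ∃ i ∈ (Pᶜ : Finset (Fin n)), Ψ ρ i ≠ i := by
    intro ρ hρ hρ1
    by_contra hcon
    push Not at hcon
    apply hρ1
    apply hΨi
    ext i
    by_cases hi : i ∈ P
    · rw [hρP ρ hρ i hi]; rfl
    · rw [hcon i (Finset.mem_compl.2 hi)]; rfl
  obtain ⟨a, ha, b, hb, ha1, hb1, hab⟩ := exists_two K.cardR
  have habc : a * b = b * a := by
    have h1 := K.sqR (a * b) (mul_mem ha hb)
    calc a * b = (a * b)⁻¹ := (inv_eq_of_mul_eq_one_left h1).symm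
      _ = b⁻¹ * a⁻¹ := mul_inv_rev a b
      _ = b * a := by
        rw [inv_eq_of_mul_eq_one_left (K.sqR a ha), inv_eq_of_mul_eq_one_left (K.sqR b hb)]
  have hab1 : a * b ≠ 1 := by
    intro h
    apply hab
    rw [← mul_left_inj b, h, K.sqR b hb]
  -- an element of `R` without fixed points outside `P`
  obtain ⟨r, hr, hrW⟩ : ∃ r ∈ R, ∀ i ∈ (Pᶜ : Finset (Fin n)), Ψ r i ≠ i := by
    have hc1 : ∃ i ∈ (Pᶜ : Finset (Fin n)), Ψ a (Ψ b i) ≠ i := by
      obtain ⟨i, hi, h⟩ := hmv (a * b) (mul_mem ha hb) hab1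
      rw [map_mul, Perm.mul_apply] at h
      exact ⟨i, hi, h⟩
    have hno : ∀ ρ ∈ R, ∀ i ∈ (Pᶜ : Finset (Fin n)), Ψ α (Ψ ρ i) ≠ i := by
      intro ρ hρ i hi h
      exact (Finset.mem_compl.1 hi) ((hPf ρ hρ i).1 h)
    rcases exists_fpf hW (s := Ψ α) (a := Ψ a) (b := Ψ b) (hρρ a ha) (hρρ b hb) hss
      (app (by rw [← map_mul, ← map_mul, habc])) (app (by rw [← map_mul, ← map_mul, K.comm a ha]))
      (app (by rw [← map_mul, ← map_mul, K.comm b hb])) (hmv a ha ha1) (hmv b hb hb1) hc1 (hρW a ha) (hρW b hb) hsW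
      (fun i hi h => (Finset.mem_compl.1 hi) ((hS0 i).1 h)) (hno a ha) (hno b hb)
      (fun i hi => by
        have := hno (a * b) (mul_mem ha hb) i hi
        rwa [map_mul, Perm.mul_apply] at this) with h | h | h
    · exact ⟨a, ha, h⟩
    · exact ⟨b, hb, h⟩
    · refine ⟨a * b, mul_mem ha hb, fun i hi => ?_⟩
      rw [map_mul, Perm.mul_apply]
      exact h i hi
  -- `J` acts on `P`
  have hJP : ∀ j ∈ J, ∀ i ∈ P, E j i ∈ P := by
    intro j hj i hi
    by_contra hcon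
    apply hrW _ (Finset.mem_compl.2 hcon)
    have h1 := hE r j
    rw [K.fixJ r hr j hj] at h1
    have h2 : Ψ r * E j = E j * Ψ r := by
      rw [eq_mul_inv_iff_mul_eq] at h1
      exact h1.symm
    rw [app h2, hρP r hr i hi]
  have hJP' : ∀ j : J, ∀ i, E j i ∈ P ↔ i ∈ P := by
    intro j i
    refine ⟨fun h => ?_, hJP j j.2 i⟩
    have h1 := hJP (j : Λ)⁻¹ (inv_mem j.2) _ h
    rwa [map_inv, ← Perm.mul_apply, inv_mul_cancel, Perm.one_apply] at h1
  obtain ⟨χ, hχ⟩ : ∃ χ : ↥J →* Perm ↥P, ∀ j (i : ↥P), (χ j i : Fin n) = E j i := by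
    refine ⟨{ toFun := fun j => (E j).subtypePerm (hJP' j), map_one' := ?_, map_mul' := fun j k => ?_ }, fun j i => rfl⟩
    · refine Equiv.ext fun i => Subtype.ext ?_
      show E (1 : J) i = i
      rw [OneMemClass.coe_one, map_one, Perm.one_apply]
    · refine Equiv.ext fun i => Subtype.ext ?_
      show E ((j * k : J) : Λ) i = E j (E k i)
      rw [MulMemClass.coe_mul, map_mul, Perm.mul_apply]
  have hsol : Group.IsSolvable χ.range := by
    refine isSolvable_of_le_sym (S := (Finset.univ : Finset ↥P)) ?_ (by rw [sym_univ]; exact le_top)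
    rw [Finset.card_univ, Fintype.card_coe, hP3]; norm_num
  have hperf : ⁅χ.range, χ.range⁆ = χ.range := by
    rw [MonoidHom.range_eq_map, ← map_commutator]
    congr 1
    apply map_injective (subtype_injective J)
    rw [map_commutator, ← MonoidHom.range_eq_map, range_subtype, K.perf]
  have hbot : χ.range = ⊥ := by
    by_contra hne
    exact not_solvable_of_perfect hperf hne hsol
  have hχy : χ ⟨y, K.yJ⟩ = 1 := by
    have h1 : χ ⟨y, K.yJ⟩ ∈ χ.range := ⟨_, rfl⟩
    rwa [hbot, mem_bot] at h1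
  obtain ⟨i, hi⟩ : P.Nonempty := Finset.card_pos.1 (by omega)
  have h1 := hχ ⟨y, K.yJ⟩ ⟨i, hi⟩
  rw [hχy] at h1
  have h2 : E y i ≠ i := by
    have h3 := hi
    rw [hP, Perm.mem_support] at h3
    exact h3
  exact h2 h1.symm

end Cfsg.Agent.UGT.Res.W1.KAlt
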