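import Cfsg.Agent.UGT.Res.W1.Defs
import Cfsg.Agent.UGT.FL34.KF34
import Cfsg.Agent.UGT.SL.FactsL2

/-!
# Step 1 of the world `W ≠ 1`: `Λ` is neither `PSL(2,q)` nor `PSL₃(4)`

* `KCfg.not_L2` (P6), `KCfg.not_L34` (P7).
-/

set_option autoImplicit false

open Cfsg Subgroup
open Cfsg.Agent.UGT.Iface
open scoped commutatorElement

namespace Cfsg.Agent.UGT.Res.W1

section

variable {Λ : Type*} [Group Λ] {α : MulAut Λ} {R : Subgroup (MulAut Λ)} {J : Subgroup Λ} {y : Λ}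

/-- an element of odd and of 2-power order -/
theorem eq_one_of_two_pow {G : Type*} [Group G] {g : G} (h : ∃ n : ℕ, g ^ 2 ^ n = 1) (ho : Odd (orderOf g)) :
    g = 1 := by
  obtain ⟨n, hn⟩ := h
  have h1 := orderOf_dvd_of_pow_eq_one hn
  have h2 : Nat.Coprime (orderOf g) (2 ^ n) := Nat.Coprime.pow_right n (Nat.coprime_two_right.mpr ho)
  exact orderOf_eq_one_iff.1 (Nat.Coprime.eq_one_of_dvd h2 h1)

/-- two different elements `≠ 1` of the four-group `R` -/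
theorem KCfg.exists_pair (h : KCfg α R J y) : ∃ r ∈ R, ∃ s ∈ R, r ≠ 1 ∧ s ≠ 1 ∧ r ≠ s := by
  classical
  have h4 := h.cardR
  have : Finite ↥R := Nat.finite_of_card_ne_zero (by omega)
  have := Fintype.ofFinite ↥R
  rw [Nat.card_eq_fintype_card] at h4
  have h2 : 2 < (Finset.univ : Finset ↥R).card := by rw [Finset.card_univ]; omega
  obtain ⟨r, -, hr⟩ := Finset.exists_mem_ne (by omega : 1 < (Finset.univ : Finset ↥R).card) (1 : ↥R)
  have h3 : 0 < ((Finset.univ.erase (1 : ↥R)).erase r).card := by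
    rw [Finset.card_erase_of_mem (Finset.mem_erase.2 ⟨hr, Finset.mem_univ _⟩),
      Finset.card_erase_of_mem (Finset.mem_univ _)]
    omega
  obtain ⟨s, hs⟩ := Finset.card_pos.1 h3
  rw [Finset.mem_erase, Finset.mem_erase] at hs
  exact ⟨r, r.2, s, s.2, fun h => hr (Subtype.ext h), fun h => hs.2.1 (Subtype.ext h),
    fun h => hs.1 (Subtype.ext h).symm⟩

theorem comm_of_sq {G : Type*} [Group G] {a b : G} (ha : a * a = 1) (hb : b * b = 1)
    (hab : a * b * (a * b) = 1) : a * b = b * a := by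
  have h1 := inv_eq_of_mul_eq_one_left hab
  rw [mul_inv_rev, inv_eq_of_mul_eq_one_left ha, inv_eq_of_mul_eq_one_left hb] at h1
  exact h1.symm

theorem KCfg.commR (h : KCfg α R J y) {r s : MulAut Λ} (hr : r ∈ R) (hs : s ∈ R) : r * s = s * r :=
  comm_of_sq (h.sqR r hr) (h.sqR s hs) (h.sqR _ (mul_mem hr hs))

/-- **(P6)** -/
theorem KCfg.not_L2 (h : KCfg α R J y) : ¬ IsL2 Λ := by
  intro hL
  obtain ⟨F, _, _, -, ⟨Q⟩⟩ := Cfsg.Agent.UGT.Res.KFacts.exists_rep hL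
  obtain ⟨r, hr, s, hs, hr1, hs1, hrs⟩ := h.exists_pair
  have key : ∀ ρ ∈ R, ρ ≠ 1 → ρ ∈ (MulAut.conj : Λ →* MulAut Λ).range → False := by
    intro ρ hρ hρ1 hI
    have h1 := Cfsg.Agent.OddHalf.D6.PumpDown.eq_bot_of_pgl Q (h.sqR ρ hρ) hρ1 (Q.mem_inn_iff.1 hI).1
      (h.fixJ ρ hρ) h.perf
    have h2 := h.yJ
    rw [h1, mem_bot] at h2
    exact h.y1 h2
  by_cases h1 : r ∈ (MulAut.conj : Λ →* MulAut Λ).range
  · exact key r hr hr1 h1
  by_cases h2 : s ∈ (MulAut.conj : Λ →* MulAut Λ).range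
  · exact key s hs hs1 h2
  refine key (r * s) (mul_mem hr hs) ?_
    (Cfsg.Agent.UGT.SL.outer_mul_mem Q (h.sqR r hr) (h.sqR s hs) (h.commR hr hs) h1 h2)
  intro h3
  apply hrs
  have h4 := inv_eq_of_mul_eq_one_left h3
  rw [inv_eq_of_mul_eq_one_left (h.sqR s hs)] at h4
  exact h4.symm

end

section L34

open Cfsg.Agent.UGT.FL34
open Cfsg.Agent.LThreeFour Cfsg.Agent.LThreeFour.Dat
open Cfsg.Agent.ONType.Psl (PSL3)
open Cfsg.Agent.SporadicA.FieldFour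

variable {Λ : Type*} [Group Λ] {α : MulAut Λ} {R : Subgroup (MulAut Λ)} {J : Subgroup Λ} {y : Λ}

theorem KCfg.sqV (h : KCfg α R J y) {ρ : MulAut Λ} (hρ : ρ ∈ R) : α * ρ * (α * ρ) = 1 := by
  have h1 := h.comm ρ hρ
  calc α * ρ * (α * ρ) = α * (ρ * α) * ρ := by group
    _ = α * α * (ρ * ρ) := by rw [← h1]; group
    _ = 1 := by rw [h.sq, h.sqR ρ hρ, one_mul]

/-- an element `≠ 1` of `⟨α⟩ × R` which is inner -/
theorem KCfg.exists_inner (h : KCfg α R J y) (e : PSL3 ≃* Λ) : ∃ ρ ∈ R,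
    (ρ ≠ 1 ∧ (D e).tyHom ρ = 1) ∨ (D e).tyHom (α * ρ) = 1 := by
  by_contra hcon
  push Not at hcon
  let φ : ↥R →* Multiplicative (ZMod 2) × Multiplicative (ZMod 2) := bitsHom.comp ((D e).tyHom.comp R.subtype)
  have hinj : Function.Injective φ := by
    rw [injective_iff_map_eq_one]
    rintro ⟨ρ, hρ⟩ h1
    by_contra hne
    refine (hcon ρ hρ).1 (fun h2 => hne (Subtype.ext h2)) ?_
    refine bitsHom_inj _ h1 ?_
    rw [← map_mul, h.sqR ρ hρ, map_one]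
  have hcard : Nat.card ↥R = Nat.card (Multiplicative (ZMod 2) × Multiplicative (ZMod 2)) := by
    rw [h.cardR, Nat.card_eq_fintype_card]
    rfl
  have : Finite ↥R := Nat.finite_of_card_ne_zero (by rw [h.cardR]; omega)
  obtain ⟨⟨ρ, hρ⟩, h1⟩ := (Nat.bijective_iff_injective_and_card φ).2 ⟨hinj, hcard⟩ |>.2
    (bitsHom ((D e).tyHom α))⁻¹
  refine (hcon ρ hρ).2 (bitsHom_inj _ ?_ ?_)
  · have h2 : bitsHom ((D e).tyHom ρ) = (bitsHom ((D e).tyHom α))⁻¹ := h1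
    rw [map_mul, map_mul, h2, mul_inv_cancel]
  · rw [← map_mul, h.sqV hρ, map_one]

/-- **(P7)** -/
theorem KCfg.not_L34 (h : KCfg α R J y) : ¬ IsL34 Λ := by
  rintro ⟨F, _, _, hF, ⟨e1⟩⟩
  obtain ⟨e'⟩ := nonempty_psl_equiv (n := Fin 3) F hF
  let e : PSL3 ≃* Λ := e'.trans e1.symm
  have key : ∀ v : MulAut Λ, v * v = 1 → v ≠ 1 → (D e).tyHom v = 1 → MulAut.conj y * v = v * MulAut.conj y →
      False := by
    intro v hv hv1 hv2 hvy
    have h1 : v ∈ (D e).tyHom.ker := MonoidHom.mem_ker.2 hv2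
    rw [ker_tyHom] at h1
    obtain ⟨k, rfl⟩ := h1
    have hinj : ∀ l : Λ, MulAut.conj l = 1 → l = 1 := fun l hl => (D e).conj_eq_one hl
    have hk1 : k ≠ 1 := by
      rintro rfl
      exact hv1 (map_one _)
    have hk2 : k * k = 1 := hinj _ (by rw [map_mul]; exact hv)
    have hyk : y * k = k * y := by
      have h2 : MulAut.conj (y * k * y⁻¹ * k⁻¹) = 1 := by
        rw [map_mul, map_mul, map_mul, hvy, map_inv, map_inv]
        group
      have h3 := hinj _ h2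
      rw [mul_inv_eq_one, mul_inv_eq_iff_eq_mul] at h3
      exact h3
    exact h.y1 (eq_one_of_two_pow (KF.c2 e k hk2 hk1 y hyk) h.yodd)
  obtain ⟨ρ, hρ, ⟨h1, h2⟩ | h2⟩ := h.exists_inner e
  · refine key ρ (h.sqR ρ hρ) h1 h2 ?_
    ext l
    rw [MulAut.mul_apply, MulAut.mul_apply, MulAut.conj_apply, MulAut.conj_apply, map_mul, map_mul, map_inv,
      h.fixJ ρ hρ y h.yJ]
  · obtain ⟨E, -, hy, hc, -⟩ := h.unb ρ hρ
    refine key (α * ρ) (h.sqV hρ) ?_ h2 (hc _ hy)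
    intro h3
    apply h.nin
    have h4 := inv_eq_of_mul_eq_one_left h3
    rw [inv_eq_of_mul_eq_one_left (h.sqR ρ hρ)] at h4
    rw [← h4]
    exact hρ

end L34

end Cfsg.Agent.UGT.Res.W1
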