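import Cfsg.Agent.UGT.Res.W1.Defs
import Cfsg.Agent.UGT.NodeHeG
import Cfsg.Agent.UGT.U2.FOne.Defs
import Cfsg.Agent.UGT.U2.Three
import Cfsg.Agent.LieClassical.SLTwoSylowTwo
import Cfsg.Agent.SignalizersComponents.SLQuasisimple

/-!
# Step 1 of the world `W ≠ 1`: `N / O(N)` is not `He` and not of Lie type in odd characteristic

`N` a 2-component of an arbitrary subgroup `M`, `x ∈ M ∩ N(N)` an involution, `y ∈ N ∩ O(C(x))` not trivial on
`N / O(N)`. `HF (N / O(N))` and `F1D q (N / O(N))` contradict `LiftBad`.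
-/

set_option autoImplicit false

open Cfsg Subgroup
open Cfsg.Agent.SignalizersComponents Cfsg.Agent.Lib
open Cfsg.Agent.SignalizersComponents.IntrinsicBasic
open Cfsg.Agent.Intrinsic.Basic Cfsg.Agent.Intrinsic.Cen Cfsg.Agent.Intrinsic.Diag
open Cfsg.Agent.McLLyComp.Act
open Cfsg.Agent.UGT.Triple Cfsg.Agent.UGT.Iface
open Cfsg.Agent.UGT.NodeHeG (HF)
open Cfsg.Agent.UGT.Res.KFacts
open Cfsg.Agent.UGT.U2.FOne (F1D IsSL2)
open scoped commutatorElement

namespace Cfsg.Agent.UGT.Res.W1.LieHe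

universe u

/-! ### `[H, δ]` -/

section Abs

variable {K : Type*} [Group K] {δ : MulAut K} {H J : Subgroup K}

/-- `[H, δ]` -/
def br (δ : MulAut K) (H : Subgroup K) : Subgroup K := closure {k | ∃ h ∈ H, k = δ h * h⁻¹}

/-- `⟨δ^i J⟩` -/
def orb (δ : MulAut K) (J : Subgroup K) : Subgroup K := ⨆ i : ℕ, J.map (δ ^ i).toMonoidHom

theorem map_le_orb (i : ℕ) : J.map (δ ^ i).toMonoidHom ≤ orb δ J := le_iSup (fun i : ℕ => J.map (δ ^ i).toMonoidHom) i

theorem le_orb : J ≤ orb δ J := by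
  intro j hj
  exact map_le_orb 0 ⟨j, hj, rfl⟩

theorem orb_le {L : Subgroup K} (h1 : J ≤ L) (h2 : ∀ g ∈ L, δ g ∈ L) : orb δ J ≤ L := by
  refine iSup_le fun i => ?_
  induction i with
  | zero => rintro _ ⟨j, hj, rfl⟩; exact h1 hj
  | succ n ih =>
    rintro _ ⟨j, hj, rfl⟩
    have h3 := h2 _ (ih ⟨j, hj, rfl⟩)
    have h4 : (δ ^ (n + 1)).toMonoidHom j = δ ((δ ^ n).toMonoidHom j) := by
      rw [pow_succ']; rfl
    rw [h4]; exact h3

theorem orb_map : ∀ h ∈ orb δ J, δ h ∈ orb δ J := by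
  have h1 : orb δ J ≤ (orb δ J).comap δ.toMonoidHom := by
    refine iSup_le fun i => ?_
    rintro _ ⟨j, hj, rfl⟩
    refine map_le_orb (i + 1) ⟨j, hj, ?_⟩
    rw [pow_succ']; rfl
  exact fun h hh => h1 hh

theorem mem_br {h : K} (hh : h ∈ H) : δ h * h⁻¹ ∈ br δ H := subset_closure ⟨h, hh, rfl⟩

theorem br_conj {g k : K} (hg : g ∈ H) (hk : k ∈ br δ H) : g * k * g⁻¹ ∈ br δ H := by
  have h1 : br δ H ≤ (br δ H).comap (MulAut.conj g).toMonoidHom := by
    refine (closure_le _).mpr ?_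
    rintro _ ⟨h, hh, rfl⟩
    change g * (δ h * h⁻¹) * g⁻¹ ∈ br δ H
    have h2 := mul_mem (inv_mem (mem_br (δ := δ) hg)) (mem_br (δ := δ) (mul_mem hg hh))
    convert h2 using 1
    rw [map_mul]; group
  exact h1 hk

theorem br_map (hH : ∀ h ∈ H, δ h ∈ H) {k : K} (hk : k ∈ br δ H) : δ k ∈ br δ H := by
  have h1 : br δ H ≤ (br δ H).comap δ.toMonoidHom := by
    refine (closure_le _).mpr ?_
    rintro _ ⟨h, hh, rfl⟩
    change δ (δ h * h⁻¹) ∈ br δ H
    rw [map_mul, map_inv]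
    exact mem_br (hH h hh)
  exact h1 hk

theorem orb_le_br (hq : IsQuasisimple ↥J)
    (h : (J.map δ.toMonoidHom = J ∧ ∃ j ∈ J, δ j ≠ j) ∨ (∀ a ∈ J, ∀ b ∈ J, δ a * b = b * δ a)) :
    orb δ J ≤ br δ (orb δ J) := by
  refine orb_le ?_ (fun g hg => br_map orb_map hg)
  have hJ : ∀ j ∈ J, δ j * j⁻¹ ∈ br δ (orb δ J) := fun j hj => mem_br (le_orb hj)
  have hperf : _root_.commutator ↥J = ⊤ := hq.1.commutator_eq_top
  rcases h with ⟨h1, j0, hj0, hne⟩ | h
  · have hδJ : ∀ j ∈ J, δ j ∈ J := fun j hj => by rw [← h1]; exact ⟨j, hj, rfl⟩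
    have hn : ((br δ (orb δ J)).subgroupOf J).Normal := by
      refine ⟨fun n hn g => ?_⟩
      rw [mem_subgroupOf] at hn ⊢
      exact br_conj (le_orb g.2) hn
    rcases Components.quasisimple_subnormal hq hn.isSubnormal with h2 | h2
    · intro j hj
      have : (⟨j, hj⟩ : ↥J) ∈ (br δ (orb δ J)).subgroupOf J := by rw [h2]; exact mem_top _
      exact this
    · exfalso
      have hc : ∀ (a : ↥J) (b : ↥J), δ a * (a : K)⁻¹ * b = b * (δ a * (a : K)⁻¹) := by
        intro a b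
        have h3 : (⟨δ a * (a : K)⁻¹, mul_mem (hδJ a a.2) (inv_mem a.2)⟩ : ↥J) ∈
            (br δ (orb δ J)).subgroupOf J := hJ a a.2
        have h4 := mem_center_iff.1 (h2 h3) b
        exact (congrArg Subtype.val h4).symm
      let S : Subgroup ↥J := (δ.toMonoidHom.comp J.subtype).eqLocus J.subtype
      have hS : _root_.commutator ↥J ≤ S := by
        rw [_root_.commutator_def, Subgroup.commutator_le]
        intro a _ b _
        change δ ((⁅a, b⁆ : ↥J) : K) = ((⁅a, b⁆ : ↥J) : K)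
        rw [commutatorElement_def]
        push_cast
        rw [map_mul, map_mul, map_mul, map_inv, map_inv]
        obtain ⟨c, hc0⟩ : ∃ c, c = δ (a : K) * (a : K)⁻¹ := ⟨_, rfl⟩
        obtain ⟨e, he0⟩ : ∃ e, e = δ (b : K) * (b : K)⁻¹ := ⟨_, rfl⟩
        have ha : δ (a : K) = c * a := by rw [hc0]; group
        have hb : δ (b : K) = e * b := by rw [he0]; group
        have hcJ : c ∈ J := by rw [hc0]; exact mul_mem (hδJ a a.2) (inv_mem a.2)
        have c1 : ∀ g : ↥J, c * (g : K) = g * c := fun g => by rw [hc0]; exact hc a g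
        have e1 : ∀ g : ↥J, e * (g : K) = g * e := fun g => by rw [he0]; exact hc b g
        rw [ha, hb]
        have e2 : e * c = c * e := e1 ⟨c, hcJ⟩
        calc c * (a : K) * (e * b) * (c * (a : K))⁻¹ * (e * b)⁻¹
            = c * ((a : K) * e) * b * (a : K)⁻¹ * c⁻¹ * (b : K)⁻¹ * e⁻¹ := by group
          _ = c * e * ((a : K) * b * (a : K)⁻¹) * (b * c)⁻¹ * e⁻¹ := by rw [← e1 a]; group
          _ = c * e * ((a : K) * b * (a : K)⁻¹) * (c * b)⁻¹ * e⁻¹ := by rw [c1 b]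
          _ = c * e * ((a : K) * b * (a : K)⁻¹ * (b : K)⁻¹) * (e * c)⁻¹ := by group
          _ = c * (e * ((⁅a, b⁆ : ↥J) : K)) * (e * c)⁻¹ := by
            rw [commutatorElement_def]; push_cast; group
          _ = (c * ((⁅a, b⁆ : ↥J) : K)) * e * (e * c)⁻¹ := by rw [e1]; group
          _ = ((⁅a, b⁆ : ↥J) : K) * (c * e) * (e * c)⁻¹ := by rw [c1]; group
          _ = ((⁅a, b⁆ : ↥J) : K) := by rw [← e2]; group
          _ = _ := by rw [commutatorElement_def]; push_cast; rfl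
      rw [hperf] at hS
      exact hne (hS (mem_top (⟨j0, hj0⟩ : ↥J)))
  · have hS : _root_.commutator ↥J ≤ (br δ (orb δ J)).subgroupOf J := by
      rw [_root_.commutator_def, Subgroup.commutator_le]
      intro a _ b _
      rw [mem_subgroupOf, commutatorElement_def]
      push_cast
      obtain ⟨c, hc0⟩ : ∃ c, c = δ (a : K) * (a : K)⁻¹ := ⟨_, rfl⟩
      have hcB : c ∈ br δ (orb δ J) := by rw [hc0]; exact hJ a a.2
      have h1 := h a a.2 b b.2
      have ha : δ (a : K) = c * a := by rw [hc0]; group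
      rw [ha] at h1
      have h2 : (a : K) * b * (a : K)⁻¹ * (b : K)⁻¹ = c⁻¹ * (b * c * (b : K)⁻¹) := by
        calc (a : K) * b * (a : K)⁻¹ * (b : K)⁻¹ = c⁻¹ * (c * (a : K) * b) * (a : K)⁻¹ * (b : K)⁻¹ := by group
          _ = c⁻¹ * (b * (c * (a : K))) * (a : K)⁻¹ * (b : K)⁻¹ := by rw [h1]
          _ = _ := by group
      rw [h2]
      exact mul_mem (inv_mem hcB) (br_conj (le_orb b.2) hcB)
    rw [hperf] at hS
    intro j hj
    exact hS (mem_top (⟨j, hj⟩ : ↥J))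

theorem orb_le_centralizer {z : K} (hz : δ z = z) (hJ : J ≤ centralizer ({z} : Set K)) :
    orb δ J ≤ centralizer ({z} : Set K) := by
  refine orb_le hJ fun g hg => ?_
  rw [mem_centralizer_singleton_iff] at hg ⊢
  have h := congrArg δ hg
  rwa [map_mul, map_mul, hz] at h

theorem pElem_orb [Finite K] (hq : IsQuasisimple ↥J) (h2 : 2 ∣ Nat.card J) :
    PComponents.pElem 2 (orb δ J) = orb δ J := by
  have : Fact (Nat.Prime 2) := ⟨Nat.prime_two⟩
  apply le_antisymm (PComponents.pElem_le _)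
  have h1 := PComponents.quasisimple_pElem_top hq h2
  refine iSup_le fun i => ?_
  have h3 : PComponents.pElem 2 (⊤ : Subgroup ↥J) ≤
      (PComponents.pElem 2 (orb δ J)).comap ((δ ^ i).toMonoidHom.comp J.subtype) := by
    refine (Subgroup.closure_le _).mpr ?_
    rintro y ⟨-, n, hn⟩
    refine PComponents.mem_pElem (n := n) (map_le_orb i ⟨y, y.2, rfl⟩) ?_
    rw [← map_pow, hn, map_one]
  rw [h1] at h3
  rintro _ ⟨j, hj, rfl⟩
  exact h3 (mem_top (⟨j, hj⟩ : ↥J))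

end Abs

/-! ### The image of `O(C(x)) ∩ M` -/

section Image

variable {G : Type*} [Group G] [Finite G]

/-- `O(C(x)) ∩ M` lies in the core of `M ∩ C(x)` -/
theorem inf_le_core' {x d : G} {M : Subgroup G} (hd : d ∈ core (centralizer ({x} : Set G))) (hdM : d ∈ M) :
    d ∈ core (M ⊓ centralizer ({x} : Set G)) := by
  obtain ⟨N, hN⟩ : ∃ N, N = core (centralizer ({x} : Set G)) ⊓ M := ⟨_, rfl⟩
  have hNle : N ≤ M ⊓ centralizer ({x} : Set G) := by
    rw [hN]
    exact le_inf inf_le_right (inf_le_left.trans (core_le _))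
  have h1 : N ≤ core (M ⊓ centralizer ({x} : Set G)) := by
    refine le_core hNle ?_ ?_
    · intro g hg
      rw [_root_.Subgroup.mem_normalizer_iff]
      have h1 : g ∈ normalizer (core (centralizer ({x} : Set G)) : Set G) := le_normalizer_core _ hg.2
      have h2 : g ∈ normalizer (M : Set G) := le_normalizer hg.1
      intro y
      rw [hN, mem_inf, mem_inf]
      exact and_congr (mem_normalizer_iff.mp h1 y) (mem_normalizer_iff.mp h2 y)
    · refine Odd.of_dvd_nat (odd_card_core (centralizer ({x} : Set G))) ?_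
      rw [hN]
      exact card_dvd_of_le inf_le_left
  exact h1 (hN ▸ ⟨hd, hdM⟩)

theorem exists_image {x y : G} {M N : Subgroup G} (hN : IsComp M N) (hx : orderOf x = 2) (hxM : x ∈ M)
    (hxN : x ∈ normalizer (N : Set G)) (hy : y ∈ N) (hyc : y ∈ core (centralizer ({x} : Set G)))
    (hf : ¬ Fixes y N) :
    ∃ D : Subgroup (MulAut (Bar N)), act N ⟨x, hxN⟩ * act N ⟨x, hxN⟩ = 1 ∧ act N ⟨x, hxN⟩ ≠ 1 ∧
      Odd (Nat.card D) ∧ D ≠ ⊥ ∧ (∀ δ ∈ D, δ * act N ⟨x, hxN⟩ = act N ⟨x, hxN⟩ * δ) ∧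
      (∀ k : Bar N, act N ⟨x, hxN⟩ k = k → ∀ δ ∈ D, MulAut.conj k * δ * (MulAut.conj k)⁻¹ ∈ D) ∧
      (∀ δ ∈ D, ∃ (d : G) (hd : d ∈ normalizer (N : Set G)), d ∈ core (centralizer ({x} : Set G)) ∧ d ∈ M ∧
        δ = act N ⟨d, hd⟩) := by
  have hx2 := sq_of_order hx
  obtain ⟨DD, hDD⟩ : ∃ DD, DD = core (centralizer ({x} : Set G)) ⊓ M := ⟨_, rfl⟩
  have hDN : ∀ d ∈ DD, d ∈ normalizer (N : Set G) := fun d hd => by
    rw [hDD] at hd
    exact mem_normalizer hN hxM hx (inf_le_core' hd.1 hd.2)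
  obtain ⟨D, hD⟩ : ∃ D : Subgroup (MulAut (Bar N)), D = (DD.subgroupOf
    (normalizer (N : Set G))).map (act N) := ⟨_, rfl⟩
  have hmem : ∀ δ, δ ∈ D ↔ ∃ (d : G) (hd : d ∈ DD), δ = act N ⟨d, hDN d hd⟩ := by
    intro δ
    rw [hD]
    constructor
    · rintro ⟨y, hy, rfl⟩
      exact ⟨y, hy, rfl⟩
    · rintro ⟨d, hd, rfl⟩
      exact ⟨⟨d, hDN d hd⟩, hd, rfl⟩
  have hyDD : y ∈ DD := by rw [hDD]; exact ⟨hyc, hN.le hy⟩
  refine ⟨D, ?_, ?_, ?_, ?_, ?_, ?_, fun δ hδ => by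
    obtain ⟨d, hd, rfl⟩ := (hmem δ).mp hδ
    have hd' := hd
    rw [hDD] at hd'
    exact ⟨d, hDN d hd, hd'.1, hd'.2, rfl⟩⟩
  · rw [← map_mul, ← map_one (act N)]
    congr 1
    exact Subtype.ext hx2
  · intro h
    exact (of_not_fixes hN hxM hx (inf_le_core' hyc (hN.le hy)) hf).2 ((act_eq_one_iff _).mp h)
  · rw [hD]
    refine Odd.of_dvd_nat (odd_card_core (centralizer ({x} : Set G))) ((Subgroup.card_map_dvd _ _).trans ?_)
    rw [Nat.card_congr (subgroupOfEquivOfLe (H := DD) (K := normalizer (N : Set G)) hDN).toEquiv, hDD]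
    exact card_dvd_of_le inf_le_left
  · intro hbot
    apply hf
    have h1 : act N ⟨y, hDN y hyDD⟩ ∈ D := (hmem _).mpr ⟨y, hyDD, rfl⟩
    rw [hbot, mem_bot] at h1
    exact (act_eq_one_iff _).mp h1
  · intro δ hδ
    obtain ⟨d, hd, rfl⟩ := (hmem δ).mp hδ
    rw [hDD] at hd
    rw [← map_mul, ← map_mul]
    congr 1
    exact Subtype.ext (comm_c (core_le _ hd.1))
  · intro k hk δ hδ
    obtain ⟨d, hd, rfl⟩ := (hmem δ).mp hδ
    obtain ⟨⟨n0, hn0⟩, rfl⟩ := QuotientGroup.mk_surjective k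
    rw [act_mk hxN hn0] at hk
    have h1 := (mk_eq_iff hn0 (Cfsg.Agent.McLLyComp.Act.conj_mem hxN hn0)).mp hk.symm
    obtain ⟨o, ho, hxo⟩ := Intrinsic.Lifting.exists_commute (n := 1) (odd_card_core N)
      (by rw [pow_one, pow_two, hx2]) (normalizer_le_normalizer_core N hxN) h1
    have hoL := core_le N ho
    have hnL : n0 * o ∈ N := mul_mem hn0 hoL
    have hmk : (QuotientGroup.mk (⟨n0, hn0⟩ : ↥N) : Bar N) = QuotientGroup.mk ⟨n0 * o, hnL⟩ := by
      rw [mk_eq_iff hn0 hnL]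
      convert ho using 1
      group
    have hd' : (n0 * o) * d * (n0 * o)⁻¹ ∈ DD := by
      rw [hDD] at hd ⊢
      exact ⟨conj_core (mem_c hxo.symm) hd.1, M.mul_mem (M.mul_mem (hN.le hnL) hd.2) (M.inv_mem (hN.le hnL))⟩
    refine (hmem _).mpr ⟨_, hd', ?_⟩
    rw [hmk, ← act_of_mem hnL, ← map_inv, ← map_mul, ← map_mul]
    congr 1

end Image

/-! ### The kill -/

section Kill

variable {G : Type u} [Group G] [Finite G]

theorem kill (hL : LiftBad.{u}) (hG : Pgl G) {x : G} {M N : Subgroup G} (hN : IsComp M N)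
    (hx : orderOf x = 2) (hxM : x ∈ M) (hxN : x ∈ normalizer (N : Set G)) {δ : MulAut (Bar N)}
    (hδ : ∃ (d : G) (hd : d ∈ normalizer (N : Set G)), d ∈ core (centralizer ({x} : Set G)) ∧ d ∈ M ∧
      δ = act N ⟨d, hd⟩) {z : Bar N} {J : Subgroup (Bar N)} (hzz : z * z = 1) (hz1 : z ≠ 1)
    (hxz : act N ⟨x, hxN⟩ z = z) (hδz : δ z = z) (hJz : J ≤ centralizer ({z} : Set (Bar N))) (hzJ : z ∈ J)
    (hq : IsQuasisimple ↥J)
    (h : (J.map δ.toMonoidHom = J ∧ ∃ j ∈ J, δ j ≠ j) ∨ (∀ a ∈ J, ∀ b ∈ J, δ a * b = b * δ a)) : False := by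
  obtain ⟨d, hd, hdc, hdM, rfl⟩ := hδ
  have h2 : 2 ∣ Nat.card J := by
    have h3 : orderOf (⟨z, hzJ⟩ : ↥J) ∣ Nat.card J := orderOf_dvd_natCard _
    rwa [Subgroup.orderOf_mk, orderOf_eq_prime (by rw [pow_two, hzz]) hz1] at h3
  exact hL G hG x d M N hN hx hxM hdc hdM hxN hd z (orb (act N ⟨d, hd⟩) J) hzz hz1 hxz hδz
    (orb_le_centralizer hδz hJz) (pElem_orb hq h2) (le_orb hzJ) orb_map (orb_le_br hq h)

/-- **(P3), `He`** -/
theorem hf_false (hL : LiftBad.{u}) (hG : Pgl G) {x y : G} {M N : Subgroup G} (hN : IsComp M N)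
    (hx : orderOf x = 2) (hxM : x ∈ M) (hxN : x ∈ normalizer (N : Set G)) (hy : y ∈ N)
    (hyc : y ∈ core (centralizer ({x} : Set G))) (hf : ¬ Fixes y N) (hF : HF (Bar N)) : False := by
  obtain ⟨D, h1, h2, h3, h4, h5, h6, h7⟩ := exists_image hN hx hxM hxN hy hyc hf
  obtain ⟨t, J, htt, ht1, hτt, hJle, hcomp, htJ, δ, hδ, hδt, m, hm, hmc⟩ := hF _ h1 h2 D h3 h4 h5 h6
  have hq : IsQuasisimple ↥J :=
    Components.isQuasisimple_of_mulEquiv (subgroupOfEquivOfLe hJle) hcomp.2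
  refine kill hL hG hN hx hxM hxN (h7 δ hδ) htt ht1 hτt hδt hJle htJ hq ?_
  -- the automorphism of `C(t)`
  have hC : (centralizer ({t} : Set (Bar N))).map δ.toMonoidHom = centralizer ({t} : Set (Bar N)) := by
    ext g
    rw [mem_centralizer_singleton_iff]
    constructor
    · rintro ⟨k, hk, rfl⟩
      have hk' := mem_centralizer_singleton_iff.mp hk
      change δ k * t = t * δ k
      have := congrArg δ hk'
      rwa [map_mul, map_mul, hδt] at this
    · intro hg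
      refine ⟨δ.symm g, ?_, δ.apply_symm_apply g⟩
      change δ.symm g ∈ centralizer ({t} : Set (Bar N))
      rw [mem_centralizer_singleton_iff]
      apply δ.injective
      rw [map_mul, map_mul, δ.apply_symm_apply, hδt, hg]
  let e : ↥(centralizer ({t} : Set (Bar N))) ≃* ↥(centralizer ({t} : Set (Bar N))) :=
    (δ.subgroupMap _).trans (MulEquiv.subgroupCongr hC)
  have he : ∀ g : ↥(centralizer ({t} : Set (Bar N))), ((e g : ↥(centralizer ({t} : Set (Bar N)))) : Bar N) = δ g :=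
    fun g => rfl
  have hcomp' := Components.isComponent_map_equiv e hcomp
  by_cases hne : (J.subgroupOf (centralizer ({t} : Set (Bar N)))).map e.toMonoidHom =
      J.subgroupOf (centralizer ({t} : Set (Bar N)))
  · left
    refine ⟨?_, m, hm, fun h => hmc (by rw [h, mul_inv_cancel]; exact one_mem _)⟩
    ext g
    constructor
    · rintro ⟨k, hk, rfl⟩
      have h8 : e ⟨k, hJle hk⟩ ∈ (J.subgroupOf (centralizer ({t} : Set (Bar N)))).map e.toMonoidHom :=
        ⟨⟨k, hJle hk⟩, hk, rfl⟩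
      rw [hne] at h8
      exact h8
    · intro hg
      have h8 : (⟨g, hJle hg⟩ : ↥(centralizer ({t} : Set (Bar N)))) ∈
          J.subgroupOf (centralizer ({t} : Set (Bar N))) := hg
      rw [← hne] at h8
      obtain ⟨k, hk, hkg⟩ := h8
      exact ⟨k, hk, congrArg Subtype.val hkg⟩
  · right
    intro a ha b hb
    have h8 := Components.component_commutator_eq_bot_of_ne hcomp' hcomp hne
    rw [commutator_eq_bot_iff_le_centralizer] at h8
    have h9 := h8 (⟨⟨a, hJle ha⟩, ha, rfl⟩ : e ⟨a, hJle ha⟩ ∈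
      (J.subgroupOf (centralizer ({t} : Set (Bar N)))).map e.toMonoidHom)
    rw [mem_centralizer_iff] at h9
    have h10 := h9 ⟨b, hJle hb⟩ hb
    exact (congrArg Subtype.val h10).symm

omit [Finite G] in
theorem uniq_of_sl2 {K : Type*} [Group K] {q : ℕ} {J : Subgroup K} (h : IsSL2 q J) {a b : K} (ha : a ∈ J)
    (hb : b ∈ J) (oa : orderOf a = 2) (ob : orderOf b = 2) : a = b := by
  obtain ⟨F, _, hfin, hF, hodd, ⟨f⟩⟩ := h
  have := Fintype.ofFinite F
  have h2 := SLQuasisimple.two_ne_zero_of_odd (F := F)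
    (by rw [← Nat.card_eq_fintype_card, hF]; exact hodd)
  have key : ∀ w : K, ∀ hw : w ∈ J, orderOf w = 2 → f ⟨w, hw⟩ = -1 := by
    intro w hw how
    have h3 : orderOf (f ⟨w, hw⟩) = 2 := by
      rw [f.orderOf_eq, ← how, Subgroup.orderOf_mk]
    apply LieClassical.SLTwoSylowTwo.eq_neg_one_of_sq h2
    · intro h
      rw [h, orderOf_one] at h3
      omega
    · have h4 := pow_orderOf_eq_one (f ⟨w, hw⟩)
      rwa [h3] at h4
  have h1 : f ⟨a, ha⟩ = f ⟨b, hb⟩ := by rw [key a ha oa, key b hb ob]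
  exact congrArg Subtype.val (f.injective h1)

omit [Finite G] in
theorem fix_of_sl2 {K : Type*} [Group K] {q : ℕ} {J : Subgroup K} (h : IsSL2 q J) {z : K} (hz : z ∈ J)
    (oz : orderOf z = 2) {α : MulAut K} (hα : J.map α.toMonoidHom = J) : α z = z := by
  refine uniq_of_sl2 h ?_ hz ?_ oz
  · rw [← hα]; exact ⟨z, hz, rfl⟩
  · rw [← oz]; exact α.orderOf_eq z

/-- **(P3), Lie type in odd characteristic** -/
theorem f1d_false (hL : LiftBad.{u}) (hG : Pgl G) {x y : G} {M N : Subgroup G} (hN : IsComp M N)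
    (hx : orderOf x = 2) (hxM : x ∈ M) (hxN : x ∈ normalizer (N : Set G)) (hy : y ∈ N)
    (hyc : y ∈ core (centralizer ({x} : Set G))) (hf : ¬ Fixes y N) (hZ : center (Bar N) = ⊥) {q : ℕ}
    (hF : F1D q (Bar N)) : False := by
  obtain ⟨D, h1, h2, h3, h4, h5, h6, h7⟩ := exists_image hN hx hxM hxN hy hyc hf
  obtain ⟨z, J, oz, hzJ, hJz, -, hg, hJx, d, hd, hJd, j, hj, hdj⟩ :=
    hF (act N ⟨x, hxN⟩) D (orderOf_eq_prime (by rw [pow_two, h1]) h2) h3 h5 (fun v hv => h6 v hv.1) h4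
  have hzz : z * z = 1 := by
    have := pow_orderOf_eq_one z
    rwa [oz, pow_two] at this
  have hz1 : z ≠ 1 := by rintro rfl; rw [orderOf_one] at oz; omega
  rcases hg with h | ⟨-, hq, -, e, he, hJe, ⟨j', hj', hej'⟩, L, hLJ, hzL, hsl, hLx, hLe⟩
  · by_cases hq3 : q = 3
    · subst hq3
      refine hdj (U2.Three.three_false hZ (act N ⟨x, hxN⟩) D (fun g => ?_) h3 h5 (fun v hv _ => h6 v hv) J h hJx hd
        hJd j hj)
      rw [← MulAut.mul_apply, h1, MulAut.one_apply]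
    · have hq : IsQuasisimple ↥J := by
        obtain ⟨F, _, hfin, hF', hodd, ⟨f⟩⟩ := h
        refine Components.isQuasisimple_of_mulEquiv f.symm (SLQuasisimple.isQuasisimple_two ?_)
        have h8 : 1 < Nat.card F := Finite.one_lt_card
        rw [hF'] at h8 ⊢
        obtain ⟨k, hk⟩ := hodd
        omega
      exact kill hL hG hN hx hxM hxN (h7 d hd) hzz hz1 (fix_of_sl2 h hzJ oz hJx) (fix_of_sl2 h hzJ oz hJd) hJz hzJ
        hq (Or.inl ⟨hJd, j, hj, hdj⟩)
  · exact kill hL hG hN hx hxM hxN (h7 e he) hzz hz1 (fix_of_sl2 hsl hzL oz hLx) (fix_of_sl2 hsl hzL oz hLe) hJz hzJ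
      hq (Or.inl ⟨hJe, j', hj', hej'⟩)

end Kill

/-- **(P3)** -/
theorem p3 (hL : LiftBad.{u}) : ∀ (G : Type u) [Group G] [Finite G], Pgl G → ∀ (x y : G) (M N : Subgroup G),
    IsComp M N → orderOf x = 2 → x ∈ M → x ∈ normalizer (N : Set G) → y ∈ N →
    y ∈ core (centralizer ({x} : Set G)) → ¬ Fixes y N →
    (HF (Bar N) → False) ∧ (center (Bar N) = ⊥ → ∀ q, F1D q (Bar N) → False) :=
  fun _ _ _ hG _ _ _ _ hN hx hxM hxN hy hyc hf =>
    ⟨hf_false hL hG hN hx hxM hxN hy hyc hf, fun hZ _ => f1d_false hL hG hN hx hxM hxN hy hyc hf hZ⟩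

end Cfsg.Agent.UGT.Res.W1.LieHe
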