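import Cfsg.Agent.UGT.Res.W1.Defs
import Cfsg.Agent.UGT.Res.WSupB
import Cfsg.Agent.UGT.NodeE

/-!
# Step 1 of the world `W ≠ 1`: `PR1`

`abs`: in a finite group `X` with `O(X) = 1` let `δ` centralize `O_2(X)` and normalize all components, and let the
components not centralized by all conjugates of `δ` be simple with an abelian outer automorphism group. If
`H ≤ [H, δ]`, then `H ∩ Z(X) = 1`.
-/

set_option autoImplicit false

open Cfsg Subgroup
open Cfsg.Agent.SignalizersComponents Cfsg.Agent.Lib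
open Cfsg.Agent.SignalizersComponents.IntrinsicBasic
open Cfsg.Agent.Intrinsic.Basic Cfsg.Agent.Intrinsic.Cen Cfsg.Agent.Intrinsic.Diag
open Cfsg.Agent.McLLyComp.Act
open Cfsg.Agent.UGT.Triple Cfsg.Agent.UGT.Iface Cfsg.Agent.UGT.TriBase
open Cfsg.Agent.UGT.Res.KFacts
open scoped commutatorElement

namespace Cfsg.Agent.UGT.Res.W1.PR

section abs

variable {X : Type*} [Group X]

/-- simple with abelian outer automorphism group -/
structure Good (K : Subgroup X) : Prop where
  cb : ∀ k ∈ K, (∀ y ∈ K, k * y = y * k) → k = 1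
  out : ∀ a ∈ normalizer (K : Set X), ∀ b ∈ normalizer (K : Set X),
    ⁅a, b⁆ ∈ K ⊔ centralizer (K : Set X)

/-- two commuting subgroups -/
theorem mem_sup_comm {A B : Subgroup X} (h : A ≤ centralizer (B : Set X)) {z : X} :
    z ∈ A ⊔ B ↔ ∃ a ∈ A, ∃ b ∈ B, a * b = z := by
  have h1 : A ≤ normalizer (B : Set X) := h.trans (centralizer_le_normalizer _)
  have h2 := Subgroup.coe_mul_of_left_le_normalizer_right A B h1
  have h3 : z ∈ A ⊔ B ↔ z ∈ ((A ⊔ B : Subgroup X) : Set X) := Iff.rfl
  rw [h3, h2]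
  rfl

variable [Finite X]

/-- `C(E(X) F(X)) ≤ F(X)` -/
theorem cent_le_fitting :
    centralizer ((layer X ⊔ fittingSubgroup X : Subgroup X) : Set X) ≤ fittingSubgroup X := by
  let C : Subgroup X := centralizer ((layer X ⊔ fittingSubgroup X : Subgroup X) : Set X)
  have hLn : (layer X).Normal := Components.layer_normal X
  have : (layer X ⊔ fittingSubgroup X).Normal := inferInstance
  have hCn : C.Normal := inferInstanceAs
    ((centralizer ((layer X ⊔ fittingSubgroup X : Subgroup X) : Set X)).Normal)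
  have hCF : C ≤ centralizer (fittingSubgroup X : Set X) :=
    centralizer_le (SetLike.coe_subset_coe.mpr le_sup_right)
  have hCL : C ≤ centralizer (layer X : Set X) :=
    centralizer_le (SetLike.coe_subset_coe.mpr le_sup_left)
  have hCs : Group.IsSolvable C := by
    by_contra hns
    obtain ⟨K, hK, hKC⟩ := ComponentExists.exists_isComponent_le hCn.isSubnormal hns hCF
    have hKL := Components.component_le_layer hK
    apply Components.quasisimple_not_isMulCommutative hK.2
    refine ⟨⟨fun x y => Subtype.ext ?_⟩⟩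
    exact (mem_centralizer_iff.mp (hCL (hKC y.2)) x (hKL x.2))
  exact ComponentExists.le_fitting_of_isSubnormal_of_isSolvable hCn.isSubnormal hCs hCF

omit [Finite X] in
theorem sup_le_centralizer {F : Finset (Subgroup X)} (hF : ∀ K ∈ F, IsComponent K) {K₀ : Subgroup X}
    (h₀ : IsComponent K₀) (hn : K₀ ∉ F) : F.sup id ≤ centralizer (K₀ : Set X) :=
  Finset.sup_le fun K hK => Components.component_le_centralizer_of_ne (hF K hK) h₀
    fun h => hn (h ▸ hK)

omit [Finite X] in
/-- an element acting as an inner automorphism on each `K ∈ F` -/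
theorem exists_mul (p : X) (F : Finset (Subgroup X)) (hF : ∀ K ∈ F, IsComponent K)
    (hp : ∀ K ∈ F, p ∈ K ⊔ centralizer (K : Set X)) :
    ∃ t ∈ F.sup id, ∀ K ∈ F, t⁻¹ * p ∈ centralizer (K : Set X) := by
  classical
  induction F using Finset.induction_on with
  | empty => exact ⟨1, one_mem _, fun K hK => absurd hK (Finset.notMem_empty K)⟩
  | insert K₀ F hn ih =>
    obtain ⟨t, ht, htc⟩ := ih (fun K hK => hF K (Finset.mem_insert_of_mem hK))
      (fun K hK => hp K (Finset.mem_insert_of_mem hK))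
    have h₀ := hF K₀ (Finset.mem_insert_self _ _)
    have hF' : ∀ K ∈ F, IsComponent K := fun K hK => hF K (Finset.mem_insert_of_mem hK)
    obtain ⟨c, hc, k, hk, hkc⟩ := (mem_sup_comm le_rfl).mp
      (sup_comm K₀ (centralizer (K₀ : Set X)) ▸ hp K₀ (Finset.mem_insert_self _ _))
    have hck : k * c = p := by
      rw [← hkc]
      exact mem_centralizer_iff.mp hc k hk
    have hts := sup_le_centralizer hF' h₀ hn ht
    have htk : k * t = t * k := mem_centralizer_iff.mp hts k hk
    refine ⟨t * k, ?_, fun K hK => ?_⟩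
    · rw [Finset.sup_insert]
      exact mul_mem (mem_sup_right ht) (mem_sup_left hk)
    · rcases Finset.mem_insert.mp hK with rfl | hK
      · have h1 : (t * k)⁻¹ * p = t⁻¹ * c := by
          rw [← htk, mul_inv_rev, ← hck]
          group
        rw [h1]
        exact mul_mem (inv_mem hts) hc
      · have h1 : (t * k)⁻¹ * p = k⁻¹ * (t⁻¹ * p) := by group
        rw [h1]
        refine mul_mem (inv_mem ?_) (htc K hK)
        exact Components.component_le_centralizer_of_ne h₀ (hF' K hK)
          (fun h => hn (h ▸ hK)) hk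

omit [Finite X] in
/-- the product of centreless components is centreless -/
theorem eq_one_of_sup (F : Finset (Subgroup X)) (hF : ∀ K ∈ F, IsComponent K)
    (hG : ∀ K ∈ F, Good K) {ζ : X} (hζ : ζ ∈ F.sup id) (hc : ∀ y, ζ * y = y * ζ) : ζ = 1 := by
  classical
  induction F using Finset.induction_on with
  | empty => exact mem_bot.mp hζ
  | insert K₀ F hn ih =>
    have h₀ := hF K₀ (Finset.mem_insert_self _ _)
    have hF' : ∀ K ∈ F, IsComponent K := fun K hK => hF K (Finset.mem_insert_of_mem hK)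
    have hcen := sup_le_centralizer hF' h₀ hn
    rw [Finset.sup_insert, id, sup_comm, mem_sup_comm hcen] at hζ
    obtain ⟨e, he, k, hk, hek⟩ := hζ
    have hk1 : k = 1 := by
      refine (hG K₀ (Finset.mem_insert_self _ _)).cb k hk fun y hy => ?_
      have h1 := hc y
      rw [← hek] at h1
      have h2 : y * e = e * y := mem_centralizer_iff.mp (hcen he) y hy
      apply mul_left_cancel (a := e)
      calc e * (k * y) = e * k * y := by group
        _ = y * (e * k) := h1
        _ = y * e * k := by group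
        _ = e * (y * k) := by rw [h2]; group
    rw [hk1, mul_one] at hek
    exact ih hF' (fun K hK => hG K (Finset.mem_insert_of_mem hK)) (hek ▸ he)

/-- **the abstract statement** -/
theorem abs (hO : pPrimeCore 2 X = ⊥) {δ ζ : X} {H : Subgroup X}
    (h1 : δ ∈ centralizer (pCore 2 X : Set X))
    (h2 : ∀ K : Subgroup X, IsComponent K → δ ∈ normalizer (K : Set X))
    (h3 : ∀ K : Subgroup X, IsComponent K →
      (∀ g, g * δ * g⁻¹ ∈ centralizer (K : Set X)) ∨ Good K)
    (hζ : ∀ y, ζ * y = y * ζ) (hH : H ≤ ⁅H, zpowers δ⁆) (hz : ζ ∈ H) : ζ = 1 := by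
  classical
  have hfact : Fact (Nat.Prime 2) := ⟨Nat.prime_two⟩
  have hfit := BalanceAux.fitting_eq_pCore (X := X) 2 hO
  obtain ⟨P, hP⟩ : ∃ P : Subgroup X, P = normalClosure {δ} := ⟨_, rfl⟩
  have hPn : P.Normal := hP ▸ normalClosure_normal
  have hδP : δ ∈ P := hP ▸ subset_normalClosure rfl
  have hPle : ∀ N : Subgroup X, N.Normal → δ ∈ N → P ≤ N := by
    intro N hN hd
    rw [hP]
    exact normalClosure_le_normal (by rintro _ rfl; exact hd)
  have hPO : P ≤ centralizer (fittingSubgroup X : Set X) := by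
    rw [hfit]
    have : (pCore 2 X).Normal := Lib.Cores.pCore_normal 2
    exact hPle _ inferInstance h1
  -- `P` normalizes the components
  have hPN : ∀ K : Subgroup X, IsComponent K → P ≤ normalizer (K : Set X) := by
    obtain ⟨N, hN⟩ : ∃ N : Subgroup X, ∀ p, p ∈ N ↔ ∀ K : Subgroup X, IsComponent K →
        p ∈ normalizer (K : Set X) :=
      ⟨{ carrier := {p | ∀ K : Subgroup X, IsComponent K → p ∈ normalizer (K : Set X)}
         mul_mem' := fun ha hb K hK => mul_mem (ha K hK) (hb K hK)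
         one_mem' := fun K _ => one_mem _
         inv_mem' := fun ha K hK => inv_mem (ha K hK) }, fun _ => Iff.rfl⟩
    have hNn : N.Normal := by
      refine ⟨fun n hn g => ?_⟩
      rw [hN] at hn ⊢
      intro K hK
      have h4 : IsComponent (IntrinsicBasic.cj g⁻¹ K) := Components.isComponent_conj g⁻¹ hK
      have h5 := hn _ h4
      rw [mem_normalizer_iff_cj] at h5 ⊢
      have h6 := congrArg (IntrinsicBasic.cj g) h5
      rw [cj_cj_inv] at h6
      rw [cj_mul, cj_mul]
      exact h6
    intro K hK p hp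
    exact (hN p).mp (hPle N hNn ((hN δ).mpr h2) hp) K hK
  -- the components not centralized by `P`
  obtain ⟨S, hS⟩ : ∃ S : Finset (Subgroup X), ∀ K, K ∈ S ↔ IsComponent K ∧
      ¬ P ≤ centralizer (K : Set X) := by
    refine ⟨(Set.toFinite {K : Subgroup X | IsComponent K ∧ ¬ P ≤ centralizer (K : Set X)}).toFinset,
      fun K => ?_⟩
    rw [Set.Finite.mem_toFinset]
    rfl
  have hSc : ∀ K ∈ S, IsComponent K := fun K hK => ((hS K).mp hK).1
  have hSg : ∀ K ∈ S, Good K := by
    intro K hK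
    obtain ⟨h4, h5⟩ := (hS K).mp hK
    rcases h3 K h4 with h6 | h6
    · exfalso
      apply h5
      rw [hP, normalClosure, closure_le]
      intro z hz
      obtain ⟨a, ha, hza⟩ := Group.mem_conjugatesOfSet_iff.mp hz
      obtain ⟨c, hc⟩ := isConj_iff.mp hza
      rw [Set.mem_singleton_iff] at ha
      rw [ha] at hc
      rw [← hc]
      exact h6 c
    · exact h6
  obtain ⟨E, hE⟩ : ∃ E : Subgroup X, E = S.sup id := ⟨_, rfl⟩
  have hEL : E ≤ layer X := by
    rw [hE]
    exact Finset.sup_le fun K hK => Components.component_le_layer (hSc K hK)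
  -- `[P, P] ≤ E O_2(X)`
  have hPP : ∀ p ∈ ⁅P, P⁆, ∃ t ∈ E, t⁻¹ * p ∈ fittingSubgroup X := by
    intro p hp
    have h4 : ∀ K ∈ S, p ∈ K ⊔ centralizer (K : Set X) := by
      intro K hK
      have h5 : ⁅P, P⁆ ≤ K ⊔ centralizer (K : Set X) := by
        rw [commutator_le]
        intro a ha b hb
        exact (hSg K hK).out a (hPN K (hSc K hK) ha) b (hPN K (hSc K hK) hb)
      exact h5 hp
    obtain ⟨t, ht, htc⟩ := exists_mul p S hSc h4
    rw [← hE] at ht
    have hpP : p ∈ P := commutator_le_left P P hp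
    refine ⟨t, ht, cent_le_fitting ?_⟩
    have hL : layer X ≤ centralizer ({t⁻¹ * p} : Set X) := by
      rw [Components.layer_le_iff]
      intro K hK
      have h6 : t⁻¹ * p ∈ centralizer (K : Set X) := by
        by_cases hKS : K ∈ S
        · exact htc K hKS
        · have h7 : P ≤ centralizer (K : Set X) := by
            by_contra h8
            exact hKS ((hS K).mpr ⟨hK, h8⟩)
          have h8 : E ≤ centralizer (K : Set X) := hE ▸ sup_le_centralizer hSc hK hKS
          exact mul_mem (inv_mem (h8 ht)) (h7 hpP)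
      intro k hk
      rw [mem_centralizer_singleton_iff]
      exact mem_centralizer_iff.mp h6 k hk
    have hF : fittingSubgroup X ≤ centralizer ({t⁻¹ * p} : Set X) := by
      have h6 : t⁻¹ * p ∈ centralizer (fittingSubgroup X : Set X) :=
        mul_mem (inv_mem (Components.layer_le_centralizer_fitting (hEL ht))) (hPO hpP)
      intro k hk
      rw [mem_centralizer_singleton_iff]
      exact mem_centralizer_iff.mp h6 k hk
    rw [mem_centralizer_iff]
    intro k hk
    exact mem_centralizer_singleton_iff.mp ((sup_le hL hF) hk)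
  have hzP : zpowers δ ≤ P := by
    rw [zpowers_le]
    exact hδP
  have hHP : H ≤ P := hH.trans ((commutator_mono le_rfl hzP).trans (commutator_le_right H P))
  have hHPP : H ≤ ⁅P, P⁆ := hH.trans (commutator_mono hHP hzP)
  have hPE : P ≤ normalizer (E : Set X) := by
    intro p hp
    rw [mem_normalizer_iff_cj, hE]
    have h4 : ∀ K ∈ S, IntrinsicBasic.cj p K = K := fun K hK =>
      mem_normalizer_iff_cj.mp (hPN K (hSc K hK) hp)
    apply Subgroup.eq_of_le_of_card_ge
    · have h5 : IntrinsicBasic.cj p (S.sup id) = S.sup fun K => IntrinsicBasic.cj p K := by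
        change (S.sup id).map _ = _
        rw [Finset.apply_sup_eq_sup_comp (fun K : Subgroup X => K.map (MulAut.conj p).toMonoidHom)
          (fun A B => Subgroup.map_sup A B _) (Subgroup.map_bot _)]
        rfl
      rw [h5]
      exact Finset.sup_le fun K hK => by
        rw [h4 K hK]
        exact Finset.le_sup (f := id) hK
    · rw [card_cj]
  have hHE : H ≤ E := by
    refine hH.trans ?_
    rw [commutator_le]
    intro h hh g hg
    obtain ⟨t, ht, hc⟩ := hPP h (hHPP hh)
    obtain ⟨c, hc'⟩ : ∃ c, c = t⁻¹ * h := ⟨_, rfl⟩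
    rw [← hc'] at hc
    have hgc : c * g = g * c := mem_centralizer_iff.mp (hPO (hzP hg)) c hc
    have h4 : ⁅h, g⁆ = t * (g * t⁻¹ * g⁻¹) := by
      have h5 : h = t * c := by rw [hc']; group
      rw [commutatorElement_def, h5, mul_inv_rev]
      calc t * c * g * (c⁻¹ * t⁻¹) * g⁻¹ = t * (c * g) * c⁻¹ * t⁻¹ * g⁻¹ := by group
        _ = t * (g * c) * c⁻¹ * t⁻¹ * g⁻¹ := by rw [hgc]
        _ = t * (g * t⁻¹ * g⁻¹) := by group
    rw [h4]
    exact mul_mem ht ((mem_normalizer_iff.mp (hPE (hzP hg)) _).mp (inv_mem ht))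
  exact eq_one_of_sup S hSc hSg (hE ▸ hHE hz) hζ

end abs

/-! ### the translation -/

section tr

variable {X : Type*} [Group X] {K : Subgroup X} {F : Type*} [Field F] [Finite F]

theorem Good.of_rep (R : Cfsg.Agent.GH.L2Aut.Rep F ↥K) : Good K where
  cb := by
    intro k hk h
    have h1 : MulAut.conj (⟨k, hk⟩ : ↥K) = 1 := by
      apply MulEquiv.ext
      rintro ⟨y, hy⟩
      apply Subtype.ext
      change k * y * k⁻¹ = y
      rw [h y hy, mul_inv_cancel_right]
    exact congrArg Subtype.val (R.conj_injective (h1.trans (map_one _).symm))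
  out := by
    intro a ha b hb
    have hab : ⁅a, b⁆ ∈ normalizer (K : Set X) := by
      rw [commutatorElement_def]
      exact mul_mem (mul_mem (mul_mem ha hb) (inv_mem ha)) (inv_mem hb)
    have h1 : K.normalizerMonoidHom ⟨⁅a, b⁆, hab⟩ =
        ⁅K.normalizerMonoidHom ⟨a, ha⟩, K.normalizerMonoidHom ⟨b, hb⟩⁆ := by
      rw [← map_commutatorElement]
      rfl
    have h2 : K.normalizerMonoidHom ⟨⁅a, b⁆, hab⟩ ∈ (MulAut.conj : ↥K →* MulAut ↥K).range := by
      rw [R.mem_inn_iff, h1, map_commutatorElement, map_commutatorElement]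
      constructor
      · rw [commutatorElement_eq_one_iff_mul_comm]
        exact EFacts.ringAut_comm _ _
      · rw [commutatorElement_eq_one_iff_mul_comm]
        exact mul_comm _ _
    obtain ⟨⟨k, hk⟩, hk'⟩ := h2
    have h3 : k⁻¹ * ⁅a, b⁆ ∈ centralizer (K : Set X) := by
      rw [mem_centralizer_iff]
      intro y hy
      have h4 := congrArg Subtype.val (DFunLike.congr_fun hk' ⟨y, hy⟩)
      change k * y * k⁻¹ = ⁅a, b⁆ * y * ⁅a, b⁆⁻¹ at h4
      obtain ⟨c, hc⟩ : ∃ c, c = ⁅a, b⁆ := ⟨_, rfl⟩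
      rw [← hc] at h4 ⊢
      calc y * (k⁻¹ * c) = k⁻¹ * (k * y * k⁻¹) * c := by group
        _ = k⁻¹ * (c * y * c⁻¹) * c := by rw [h4]
        _ = k⁻¹ * c * y := by group
    have h5 : ⁅a, b⁆ = k * (k⁻¹ * ⁅a, b⁆) := by group
    rw [h5]
    exact mul_mem (mem_sup_left hk) (mem_sup_right h3)

end tr

universe u

variable {G : Type u} [Group G] [Finite G]

/-- the image of a 2-component `L` of `H` in `H / O(H)` is `L / O(L)` -/
theorem exists_equiv {H L : Subgroup G} (hL : IsComp H L) :
    Nonempty ((↥L ⧸ oddCore ↥L) ≃*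
      ↥((L.subgroupOf H).map (QuotientGroup.mk' (pPrimeCore 2 ↥H)))) := by
  have hLH := hL.le
  let f : ↥L →* (↥H ⧸ pPrimeCore 2 ↥H) :=
    (QuotientGroup.mk' (pPrimeCore 2 ↥H)).comp (inclusion hLH)
  have hker : oddCore ↥L = f.ker := by
    ext l
    rw [MonoidHom.mem_ker]
    have h1 : f l = 1 ↔ (inclusion hLH l) ∈ oddCore ↥H := QuotientGroup.eq_one_iff _
    have h2 : (l : G) ∈ core L ↔ l ∈ oddCore ↥L := mem_core_iff l.2
    have h3 : (l : G) ∈ core H ↔ (inclusion hLH l) ∈ oddCore ↥H := mem_core_iff (hLH l.2)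
    rw [h1, ← h2, ← h3]
    constructor
    · exact fun h => hL.core_le_core h
    · intro h
      have h4 : L ⊓ core H ≤ core L := by
        refine le_core inf_le_left ?_ (Odd.of_dvd_nat (odd_card_core H) (card_dvd_of_le inf_le_right))
        intro g hg
        rw [mem_normalizer_iff_cj, cj_inf, cj_eq_self_of_mem hg,
          mem_normalizer_iff_cj.mp (le_normalizer_core H (hLH hg))]
      exact h4 ⟨l.2, h⟩
  have hrange : f.range = (L.subgroupOf H).map (QuotientGroup.mk' (pPrimeCore 2 ↥H)) := by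
    ext z
    constructor
    · rintro ⟨l, rfl⟩
      exact ⟨inclusion hLH l, l.2, rfl⟩
    · rintro ⟨l, hl, rfl⟩
      exact ⟨⟨l, hl⟩, rfl⟩
  exact ⟨(QuotientGroup.quotientMulEquivOfEq hker).trans
    ((QuotientGroup.quotientKerEquivRange f).trans (MulEquiv.subgroupCongr hrange))⟩

/-- **(PR1)** -/
theorem pr1 : PR1.{u} := by
  intro G _ _ P x z d H hx hz hzx hd hdz hHz hdH hHd hzH
  have hfact : Fact (Nat.Prime 2) := ⟨Nat.prime_two⟩
  obtain ⟨C, hC⟩ : ∃ C : Subgroup G, C = centralizer ({z} : Set G) := ⟨_, rfl⟩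
  have hxC : x ∈ C := hC ▸ mem_c hzx.symm
  have hdC : d ∈ C := hC ▸ mem_c hdz
  have hzC : z ∈ C := hC ▸ mem_c rfl
  rw [← hC] at hHz
  have hdc : d ∈ core (C ⊓ centralizer ({x} : Set G)) := by
    rw [hC]
    exact inf_le_core hd (hC ▸ hdC)
  have hO := Lib.Cores.pPrimeCore_quotient_pPrimeCore (G := ↥C) 2
  obtain ⟨δ, hδ⟩ : ∃ δ, δ = QuotientGroup.mk' (pPrimeCore 2 ↥C) ⟨d, hdC⟩ := ⟨_, rfl⟩
  have hox : orderOf (QuotientGroup.mk' (pPrimeCore 2 ↥C) ⟨x, hxC⟩) = 2 := by
    refine orderOf_eq_prime ?_ ?_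
    · rw [← map_pow]
      have : (⟨x, hxC⟩ : ↥C) ^ 2 = 1 := Subtype.ext (by
        change x ^ 2 = 1
        rw [← hx, pow_orderOf_eq_one])
      rw [this, map_one]
    · intro h
      have h3 : x ∈ core C := (mem_core_iff hxC).mpr ((QuotientGroup.eq_one_iff _).mp h)
      exact ne_one_of_order hx (eq_one_of_mem_core_sq h3 (sq_of_order hx))
  have hδc : δ ∈ centralizerPPrimeCore 2 (QuotientGroup.mk' (pPrimeCore 2 ↥C) ⟨x, hxC⟩) := by
    rw [hδ]
    exact mk_mem_core hxC hx hdc
  have key := abs (X := ↥C ⧸ pPrimeCore 2 ↥C) hO (δ := δ)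
    (ζ := QuotientGroup.mk' (pPrimeCore 2 ↥C) ⟨z, hzC⟩)
    (H := (H.subgroupOf C).map (QuotientGroup.mk' (pPrimeCore 2 ↥C)))
    (BalanceAux.core_le_centralizer_pCore 2 _ hox hδc)
    (fun K hK => BalanceAux.core_le_normalizer_component 2 hO _ hox K hK hδc) ?_ ?_ ?_ ?_
  · have h3 : z ∈ core C := (mem_core_iff hzC).mpr ((QuotientGroup.eq_one_iff _).mp key)
    exact ne_one_of_order hz (eq_one_of_mem_core_sq h3 (sq_of_order hz))
  · intro K hK
    obtain ⟨L, hL, rfl⟩ := PConstrained.exists_isPComponent_map_eq 2 hK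
    have hLc : IsComp C (L.map C.subtype) := isComp_of_subtype hL
    have hsub : (L.map C.subtype).subgroupOf C = L :=
      comap_map_eq_self_of_injective C.subtype_injective L
    by_cases hg : ∀ g, g * δ * g⁻¹ ∈ centralizer
        ((L.map (QuotientGroup.mk' (pPrimeCore 2 ↥C)) : Subgroup _) : Set (↥C ⧸ pPrimeCore 2 ↥C))
    · exact Or.inl hg
    · right
      push Not at hg
      obtain ⟨g, hg⟩ := hg
      obtain ⟨⟨c, hc⟩, rfl⟩ := QuotientGroup.mk'_surjective _ g
      have hcdc : c * d * c⁻¹ ∈ C := mul_mem (mul_mem hc hdC) (inv_mem hc)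
      have hf : ¬ Fixes (c * d * c⁻¹) (L.map C.subtype) := by
        intro hf
        apply hg
        have h1 := NodeE.mk_commute hLc hcdc hf
        rw [hsub] at h1
        rw [hδ, ← map_mul, ← map_inv, ← map_mul]
        exact h1
      have hf' : ¬ Fixes d (IntrinsicBasic.cj c⁻¹ (L.map C.subtype)) := by
        intro h
        apply hf
        have h1 := h.cj c
        rwa [cj_cj_inv] at h1
      have T : IsTriple x z (IntrinsicBasic.cj c⁻¹ (L.map C.subtype)) := by
        refine ⟨hx, hz, hzx, ?_, d, hd, ?_, hf'⟩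
        · rw [← hC]
          exact isComp_cj_of_mem hLc (inv_mem hc)
        · rw [← hC]
          exact hdC
      obtain ⟨F, _, _, -, R, -⟩ := P.exists_rep T
      obtain ⟨e⟩ := exists_equiv hLc
      rw [hsub] at e
      exact Good.of_rep (WSupB.tr R ((cjQuot c⁻¹ (L.map C.subtype)).symm.trans e))
  · intro y
    obtain ⟨⟨c, hc⟩, rfl⟩ := QuotientGroup.mk'_surjective _ y
    rw [← map_mul, ← map_mul]
    congr 1
    apply Subtype.ext
    change z * c = c * z
    rw [hC] at hc
    exact (comm_c hc).symm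
  · have h1 : H.subgroupOf C ≤ ⁅H.subgroupOf C, zpowers (⟨d, hdC⟩ : ↥C)⁆ := by
      have h2 : ⁅H.subgroupOf C, zpowers (⟨d, hdC⟩ : ↥C)⁆.map C.subtype = ⁅H, zpowers d⁆ := by
        rw [map_commutator, subgroupOf_map_subtype, inf_of_le_left hHz, MonoidHom.map_zpowers]
        rfl
      intro h hh
      have h3 : (h : G) ∈ ⁅H, zpowers d⁆ := hHd hh
      rw [← h2] at h3
      obtain ⟨h', h4, h5⟩ := h3
      have h6 : h' = h := Subtype.ext h5
      rw [← h6]
      exact h4
    have h2 := Subgroup.map_mono (f := QuotientGroup.mk' (pPrimeCore 2 ↥C)) h1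
    rw [map_commutator, MonoidHom.map_zpowers, ← hδ] at h2
    exact h2
  · exact ⟨⟨z, hzC⟩, hzH, rfl⟩

end Cfsg.Agent.UGT.Res.W1.PR
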