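import Cfsg.Agent.UGT.Res.W1.Star
import Cfsg.Agent.UGT.U2.World
import Cfsg.Agent.UGT.U2.Ree
import Cfsg.Agent.UGT.A9.LTwo
import Cfsg.Agent.UGT.A9.LTwoRank

/-!
# Step 1, the case that no `r ∈ R₀#` fixes `N`

* `NSt.normal`: `N` is normal in `M`; `NSt.simple`: `N / O(N)` is simple.
* `NSt.kcfg`: the configuration `KCfg` in `N / O(N)`.
* `NSt.inU`: `N / O(N)` is on the list of S1311.
-/

set_option autoImplicit false
set_option linter.unusedSectionVars false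

open Cfsg Subgroup
open Cfsg.Agent.SignalizersComponents Cfsg.Agent.Lib
open Cfsg.Agent.SignalizersComponents.IntrinsicBasic
open Cfsg.Agent.SignalizersComponents.PLayerAut
open Cfsg.Agent.Intrinsic.Basic Cfsg.Agent.Intrinsic.Cen Cfsg.Agent.Intrinsic.Diag
open Cfsg.Agent.McLLyComp.Act
open Cfsg.Agent.FixBN.BTheorem Cfsg.Agent.FixBN.BRelative
open Cfsg.Agent.UGT.Triple Cfsg.Agent.UGT.LemG Cfsg.Agent.UGT.PumpGen Cfsg.Agent.UGT.TriBase Cfsg.Agent.UGT.Iface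
open Cfsg.Agent.UGT.A9.Marker
open Cfsg.Agent.UGT.Res.Base Cfsg.Agent.UGT.Res.Abel Cfsg.Agent.UGT.Res.CoreFree Cfsg.Agent.UGT.Res.KFacts
open scoped commutatorElement

namespace Cfsg.Agent.UGT.Res.W1

universe u

local notation "Fs" => generalizedFittingSubgroup

/-! ### the image of `O(C(v)) ∩ M` -/

section img

variable {G : Type u} [Group G] [Finite G] {M N : Subgroup G}

theorem exists_img (hMN : M ≤ normalizer (N : Set G)) (hNM : N ≤ M) {v : G} (hv : v * v = 1)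
    (hvN : v ∈ normalizer (N : Set G)) :
    ∃ D : Subgroup (MulAut (Bar N)), Odd (Nat.card ↥D) ∧
      (∀ d ∈ core (centralizer ({v} : Set G)), ∀ hd : d ∈ M, act N ⟨d, hMN hd⟩ ∈ D) ∧
      (∀ δ ∈ D, ∃ (d : G) (hd : d ∈ M), d ∈ core (centralizer ({v} : Set G)) ∧ δ = act N ⟨d, hMN hd⟩) ∧
      (∀ δ ∈ D, δ * act N ⟨v, hvN⟩ = act N ⟨v, hvN⟩ * δ) ∧
      ∀ k : Bar N, act N ⟨v, hvN⟩ k = k → ∀ δ ∈ D, MulAut.conj k * δ * (MulAut.conj k)⁻¹ ∈ D := by
  obtain ⟨C, hC⟩ : ∃ C, C = core (centralizer ({v} : Set G)) ⊓ M := ⟨_, rfl⟩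
  have hCN : C ≤ normalizer (N : Set G) := hC ▸ inf_le_right.trans hMN
  have hodd : Odd (Nat.card ↥C) := by
    rw [hC]
    exact Odd.of_dvd_nat (odd_card_core _) (card_dvd_of_le inf_le_left)
  obtain ⟨D, hD⟩ : ∃ D : Subgroup (MulAut (Bar N)), D = (C.subgroupOf (normalizer (N : Set G))).map (act N) :=
    ⟨_, rfl⟩
  have hmem : ∀ δ, δ ∈ D ↔ ∃ (d : G) (hd : d ∈ C), δ = act N ⟨d, hCN hd⟩ := by
    intro δ
    rw [hD]
    constructor
    · rintro ⟨y, hy, rfl⟩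
      exact ⟨y, hy, rfl⟩
    · rintro ⟨d, hd, rfl⟩
      exact ⟨⟨d, hCN hd⟩, hd, rfl⟩
  refine ⟨D, ?_, ?_, ?_, ?_, ?_⟩
  · rw [hD]
    refine Odd.of_dvd_nat hodd ((Subgroup.card_map_dvd _ _).trans ?_)
    rw [Nat.card_congr (subgroupOfEquivOfLe hCN).toEquiv]
  · intro d hd hdM
    rw [hmem]
    exact ⟨d, hC ▸ Subgroup.mem_inf.mpr ⟨hd, hdM⟩, rfl⟩
  · intro δ hδ
    obtain ⟨d, hd, rfl⟩ := (hmem δ).mp hδ
    have hd' := hd
    rw [hC] at hd'
    exact ⟨d, hd'.2, hd'.1, rfl⟩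
  · intro δ hδ
    obtain ⟨d, hd, rfl⟩ := (hmem δ).mp hδ
    have hd' := hd
    rw [hC] at hd'
    rw [← map_mul, ← map_mul]
    congr 1
    exact Subtype.ext (comm_c (core_le _ hd'.1))
  · intro k hk δ hδ
    obtain ⟨d, hd, rfl⟩ := (hmem δ).mp hδ
    obtain ⟨⟨n0, hn0⟩, rfl⟩ := QuotientGroup.mk_surjective k
    rw [act_mk hvN hn0] at hk
    have h1 := (mk_eq_iff hn0 (Cfsg.Agent.McLLyComp.Act.conj_mem hvN hn0)).mp hk.symm
    obtain ⟨o, ho, hxo⟩ := Intrinsic.Lifting.exists_commute (n := 1) (odd_card_core N)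
      (by rw [pow_one, pow_two, hv]) (normalizer_le_normalizer_core N hvN) h1
    have hnN : n0 * o ∈ N := mul_mem hn0 (core_le N ho)
    have hmk : (QuotientGroup.mk (⟨n0, hn0⟩ : ↥N) : Bar N) = QuotientGroup.mk ⟨n0 * o, hnN⟩ := by
      rw [mk_eq_iff hn0 hnN]
      convert ho using 1
      group
    rw [hmk]
    obtain ⟨n, hn⟩ : ∃ n, n = n0 * o := ⟨_, rfl⟩
    have hnN' : n ∈ N := hn ▸ hnN
    have hnC : n * d * n⁻¹ ∈ C := by
      rw [hC] at hd ⊢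
      have hnv : n ∈ centralizer ({v} : Set G) := mem_c (hn ▸ hxo.symm)
      exact Subgroup.mem_inf.mpr ⟨conj_core hnv hd.1,
        mul_mem (mul_mem (hNM hnN') hd.2) (inv_mem (hNM hnN'))⟩
    rw [hmem]
    refine ⟨_, hnC, ?_⟩
    have e1 : (QuotientGroup.mk (⟨n0 * o, hnN⟩ : ↥N) : Bar N) = QuotientGroup.mk ⟨n, hnN'⟩ := by
      congr 1
      exact Subtype.ext hn.symm
    rw [e1, ← act_of_mem hnN', ← act_mul, ← act_inv, ← act_mul]

end img

namespace NSt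

variable {G : Type u} [Group G] [Finite G] {x y : G} {R₀ J M N : Subgroup G} {Lr : G → Subgroup G}

/-- `N` is the only 2-component of `M` -/
theorem uniq (P : Pgl G) (S : NSt x y R₀ J M N Lr) (hR : ∀ r ∈ R₀, r ≠ 1 → ¬ Fixes r N)
    {N' : Subgroup G} (hN' : IsComp M N') : N' = N := by
  by_contra hne
  obtain ⟨z, hz, hzz, hz1⟩ := A9.LTwo.exists_inv_of_comp hN' (N := (⊥ : Subgroup G)) (by
    rw [card_bot]; exact odd_one)
  exact S.star P hR z (hN'.le hz) (orderOf_eq_prime (by rw [pow_two, hzz]) hz1)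
    (S.comp.fixes_of_mem hN' (Ne.symm hne) hz)

theorem normal (P : Pgl G) (S : NSt x y R₀ J M N Lr) (hR : ∀ r ∈ R₀, r ≠ 1 → ¬ Fixes r N) :
    M ≤ normalizer (N : Set G) := by
  intro m hm
  rw [mem_normalizer_iff_cj]
  exact S.uniq P hR (isComp_cj_of_mem S.comp hm)

/-- `N / O(N)` is centreless -/
theorem center_eq (P : Pgl G) (S : NSt x y R₀ J M N Lr) (hR : ∀ r ∈ R₀, r ≠ 1 → ¬ Fixes r N) :
    center (Bar N) = ⊥ := by
  by_contra hZ
  have h2 : Fact (Nat.Prime 2) := ⟨Nat.prime_two⟩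
  -- the elements of `N` fixing `N`
  obtain ⟨Q, hQ⟩ : ∃ Q, Q = fix N N := ⟨_, rfl⟩
  have hQN : Q ≤ N := hQ ▸ fix_le N N
  have hodd : Odd (Nat.card ↥Q) := by
    by_contra hev
    rw [Nat.not_odd_iff_even, even_iff_two_dvd] at hev
    obtain ⟨⟨t, ht⟩, ht2⟩ := exists_prime_orderOf_dvd_card' 2 hev
    rw [Subgroup.orderOf_mk] at ht2
    have ht' := ht
    rw [hQ, mem_fix] at ht'
    exact S.star P hR t (S.comp.le ht'.1) ht2 ht'.2
  have hQc : Q ≤ core N := by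
    refine le_core hQN ?_ hodd
    intro g hg
    rw [mem_normalizer_iff_cj, hQ, cj_fix, mem_normalizer_iff_cj.mp (le_normalizer hg)]
  apply hZ
  rw [eq_bot_iff]
  intro z hz
  obtain ⟨⟨k, hk⟩, rfl⟩ := QuotientGroup.mk_surjective z
  rw [mem_bot, mk_eq_one_iff hk]
  apply hQc
  rw [hQ, mem_fix]
  refine ⟨hk, ?_⟩
  rw [← act_eq_one_iff (le_normalizer hk), act_of_mem hk]
  apply MulEquiv.ext
  intro g
  rw [MulAut.conj_apply, MulAut.one_apply]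
  rw [← Subgroup.mem_center_iff.mp hz g]
  group

theorem simple (P : Pgl G) (S : NSt x y R₀ J M N Lr) (hR : ∀ r ∈ R₀, r ≠ 1 → ¬ Fixes r N) :
    IsSimpleGroup (Bar N) := by
  have hq := U2.TypeOf.quasisimple S.comp
  have hs := hq.2
  have hZ := S.center_eq P hR
  have e : Bar N ⧸ center (Bar N) ≃* Bar N :=
    (QuotientGroup.quotientMulEquivOfEq hZ).trans QuotientGroup.quotientBot
  exact e.symm.isSimpleGroup

/-- `y` moves `N` -/
theorem y_ne (S : NSt x y R₀ J M N Lr) : ¬ Fixes y N := fun h => S.ymv (S.fixes_J (le_normalizer S.yJ) h)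

theorem invxf (S : NSt x y R₀ J M N Lr) {f : G} (hf : f ∈ R₀) : x * f * (x * f) = 1 := by
  have h1 := sq_of_order S.invx
  calc x * f * (x * f) = x * (f * x) * f := by group
    _ = x * (x * f) * f := by rw [S.xR f hf]
    _ = (x * x) * (f * f) := by group
    _ = 1 := by rw [h1, S.sqR f hf, one_mul]

/-- `x f` moves `N` -/
theorem xf_ne (P : Pgl G) (S : NSt x y R₀ J M N Lr) (hR : ∀ r ∈ R₀, r ≠ 1 → ¬ Fixes r N) {f : G}
    (hf : f ∈ R₀) : ¬ Fixes (x * f) N := by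
  intro h
  refine S.star P hR (x * f) (mul_mem S.xM (S.RM hf)) ?_ h
  refine orderOf_eq_prime (by rw [pow_two, S.invxf hf]) fun h1 => ?_
  -- `y ∈ O(C(1)) = O(G)`: `y` fixes `J`
  have h2 := S.yf f hf
  have h3 : x * f ∈ R₀ := h1 ▸ one_mem _
  have h4 : x ∈ R₀ := by
    have := mul_mem h3 (inv_mem hf)
    rwa [mul_inv_cancel_right] at this
  have hx1 := ne_one_of_order S.invx
  have hfix : Fixes x J := fixes_self' fun j hj => mem_c (S.commJ h4 hj).symm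
  have h5 := (S.tri x h4 hx1)
  exact h5.not_fixes ((fixes_iff_of_sup (S.sup x h4 hx1) hfix.1 h5.x_mem).mp hfix)

theorem xfN (S : NSt x y R₀ J M N Lr) {f : G} (hf : f ∈ R₀) : x * f ∈ normalizer (N : Set G) :=
  mul_mem S.xN (S.RN hf)

/-- **`KCfg`** -/
theorem kcfg (P : Pgl G) (S : NSt x y R₀ J M N Lr) (hR : ∀ r ∈ R₀, r ≠ 1 → ¬ Fixes r N) :
    KCfg (act N ⟨x, S.xN⟩) (A9.LTwo.im N R₀) ((J.subgroupOf N).map (QuotientGroup.mk' (oddCore ↥N)))
      (QuotientGroup.mk ⟨y, S.JN S.yJ⟩ : Bar N) where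
  sq := by
    rw [← act_mul, act_congr (mul_mem S.xN S.xN) (sq_of_order S.invx)]
    exact map_one _
  cardR := by
    rw [A9.LTwo.card_im (fun r hr => S.RN hr) fun r hr h => by_contra fun h1 => hR r hr h1 h]
    exact S.cardR
  sqR := A9.LTwo.im_sq S.sqR
  comm := by
    intro ρ hρ
    obtain ⟨r, hr, h, rfl⟩ := A9.LTwo.mem_im.mp hρ
    exact act_comm S.xN h (S.xR r hr)
  nin := by
    intro hρ
    obtain ⟨r, hr, h, he⟩ := A9.LTwo.mem_im.mp hρ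
    have h1 := (act_eq_iff h S.xN).mp he
    apply S.xf_ne P hR hr
    have h2 : r * x⁻¹ = x * r := by
      rw [inv_eq_of_mul_eq_one_left (sq_of_order S.invx), S.xR r hr]
    rwa [h2] at h1
  perf := image_perfect S.JN S.compJ.perfect
  fixJ := by
    rintro ρ hρ _ ⟨⟨j, hjN⟩, hj, rfl⟩
    obtain ⟨r, hr, h, rfl⟩ := A9.LTwo.mem_im.mp hρ
    have hj' : j ∈ J := hj
    change act N ⟨r, h⟩ (QuotientGroup.mk ⟨j, hjN⟩) = QuotientGroup.mk ⟨j, hjN⟩
    rw [act_mk h hjN]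
    congr 1
    apply Subtype.ext
    change r * j * r⁻¹ = j
    rw [S.commJ hr hj', mul_inv_cancel_right]
  αJ := by
    rintro _ ⟨⟨j, hjN⟩, hj, rfl⟩
    have hj' : j ∈ J := hj
    change act N ⟨x, S.xN⟩ (QuotientGroup.mk ⟨j, hjN⟩) ∈ _
    rw [act_mk S.xN hjN]
    exact ⟨⟨x * j * x⁻¹, Cfsg.Agent.McLLyComp.Act.conj_mem S.xN hjN⟩,
      Cfsg.Agent.McLLyComp.Act.conj_mem S.xJ hj', rfl⟩
  yJ := ⟨⟨y, S.JN S.yJ⟩, S.yJ, rfl⟩
  y1 := by
    intro h
    have h1 := (mk_eq_one_iff (S.JN S.yJ)).mp h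
    exact S.y_ne (S.comp.fixes_of_core (S.comp.core_le_core h1))
  yodd := by
    have h1 : orderOf (QuotientGroup.mk ⟨y, S.JN S.yJ⟩ : Bar N) ∣ orderOf (⟨y, S.JN S.yJ⟩ : ↥N) :=
      orderOf_map_dvd (QuotientGroup.mk' (oddCore ↥N)) _
    rw [Subgroup.orderOf_mk] at h1
    refine Odd.of_dvd_nat ?_ h1
    exact Odd.of_dvd_nat (odd_card_core _) (Subgroup.orderOf_dvd_natCard _ S.yx)
  unb := by
    intro ρ hρ
    obtain ⟨f, hf, h, rfl⟩ := A9.LTwo.mem_im.mp hρ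
    obtain ⟨D, h1, h2, -, h4, h5⟩ := exists_img (S.normal P hR) S.comp.le (S.invxf hf) (S.xfN hf)
    have e : act N ⟨x, S.xN⟩ * act N ⟨f, h⟩ = act N ⟨x * f, S.xfN hf⟩ := (act_mul S.xN h).symm
    rw [e]
    refine ⟨D, h1, ?_, h4, h5⟩
    rw [← act_of_mem (S.JN S.yJ)]
    exact h2 y (S.yf f hf) (S.comp.le (S.JN S.yJ))

/-- `N / O(N) ≅ (N / O(N)) / Z(N / O(N))` -/
theorem exists_equiv (P : Pgl G) (S : NSt x y R₀ J M N Lr) (hR : ∀ r ∈ R₀, r ≠ 1 → ¬ Fixes r N) :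
    Nonempty (Bar N ⧸ center (Bar N) ≃* Bar N) :=
  ⟨(QuotientGroup.quotientMulEquivOfEq (S.center_eq P hR)).trans QuotientGroup.quotientBot⟩

/-- `N / O(N)` is unbalanced -/
theorem not_balanced (P : Pgl G) (S : NSt x y R₀ J M N Lr) (hR : ∀ r ∈ R₀, r ≠ 1 → ¬ Fixes r N) :
    ¬ IsLocallyBalanced (Bar N ⧸ center (Bar N)) := by
  have hZ := S.center_eq P hR
  have hxx := sq_of_order S.invx
  obtain ⟨D, h1, h2, -, h4, h5⟩ := exists_img (S.normal P hR) S.comp.le hxx S.xN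
  have hy := h2 y S.yx (S.comp.le (S.JN S.yJ))
  have hKC := S.kcfg P hR
  have hne : act N ⟨x, S.xN⟩ ≠ 1 := by
    intro h
    exact hKC.nin (h ▸ one_mem _)
  have hD : D ≠ ⊥ := by
    rintro rfl
    rw [mem_bot] at hy
    exact S.y_ne ((act_eq_one_iff _).mp hy)
  exact U2.AutBar.not_balanced (U2.TypeOf.quasisimple S.comp) hKC.sq hne h1 hD h4 h5 (by
    intro z hz δ _
    rw [hZ, mem_bot] at hz
    rw [hz, map_one])

/-- `N / O(N)` is on the list of S1311 -/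
theorem inU (P : Pgl G) (h : MinCex G) (S : NSt x y R₀ J M N Lr) (hR : ∀ r ∈ R₀, r ≠ 1 → ¬ Fixes r N)
    (hlt : Nat.card ↥N < Nat.card ↥(Fs G)) : InU (Bar N) := by
  obtain ⟨e⟩ := S.exists_equiv P hR
  have hq := U2.TypeOf.quasisimple S.comp
  have hs := hq.2
  have hna := U2.TypeOf.not_comm_of_quasisimple hq
  have hcard : Nat.card (Bar N ⧸ center (Bar N)) < Nat.card ↥(Fs G) := by
    refine lt_of_le_of_lt ?_ hlt
    refine le_trans (Nat.le_of_dvd Nat.card_pos (Subgroup.card_quotient_dvd_card _)) ?_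
    exact Nat.le_of_dvd Nat.card_pos (Subgroup.card_quotient_dvd_card _)
  rcases inU_or_locallyBalanced h.small hna hcard with h1 | h1
  · exact h1.congr e
  · exact absurd h1 (S.not_balanced P hR)

/-- `N / O(N)` is not a Ree group -/
theorem not_ree (P : Pgl G) (S : NSt x y R₀ J M N Lr) (hR : ∀ r ∈ R₀, r ≠ 1 → ¬ Fixes r N)
    (h : Lie.IsoRee (Bar N)) : False := by
  obtain ⟨e⟩ := S.exists_equiv P hR
  obtain ⟨F, i1, i2, m, h1, h2, ⟨f⟩⟩ := h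
  exact S.not_balanced P hR (U2.Ree.locallyBalanced_ree ⟨F, i1, i2, m, h1, h2, ⟨e.trans f⟩⟩)

end NSt

end Cfsg.Agent.UGT.Res.W1
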