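import Cfsg.Agent.UGT.Res.W1.Fix
import Cfsg.Agent.UGT.Res.W1.Uniq
import Cfsg.Agent.UGT.Res.W1.AltBig
import Cfsg.Agent.UGT.Res.W1.KAlt
import Cfsg.Agent.UGT.Res.W1.KSmall
import Cfsg.Agent.UGT.Res.W1.LieHe
import Cfsg.Agent.UGT.Res.W1.Lift
import Cfsg.Agent.UGT.Res.W1.PR
import Cfsg.Agent.UGT.U2.FOne.All

/-!
# Step 1

`NSt.comm`: `H^m = H` or `[H, H^m] ≤ W` for `m ∈ M`, `H = J W`.
-/

set_option autoImplicit false
set_option linter.unusedSectionVars false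

open Cfsg Subgroup
open Cfsg.Agent.SignalizersComponents Cfsg.Agent.Lib
open Cfsg.Agent.SignalizersComponents.IntrinsicBasic
open Cfsg.Agent.SignalizersComponents.PLayerAut
open Cfsg.Agent.Intrinsic.Basic Cfsg.Agent.Intrinsic.Cen Cfsg.Agent.Intrinsic.Diag
open Cfsg.Agent.McLLyComp.Act
open Cfsg.Agent.FixBN.BTheorem Cfsg.Agent.FixBN.BRelative
open Cfsg.Agent.UGT.Triple Cfsg.Agent.UGT.LemG Cfsg.Agent.UGT.PumpGen Cfsg.Agent.UGT.TriBase Cfsg.Agent.UGT.Iface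
open Cfsg.Agent.UGT.A9.Marker
open Cfsg.Agent.UGT.Res.Base Cfsg.Agent.UGT.Res.Abel Cfsg.Agent.UGT.Res.CoreFree Cfsg.Agent.UGT.Res.KFacts
open scoped commutatorElement

namespace Cfsg.Agent.UGT.Res.W1

universe u

local notation "Fs" => generalizedFittingSubgroup

namespace NSt

variable {G : Type u} [Group G] [Finite G] {x y : G} {R₀ J M N W : Subgroup G} {Lr : G → Subgroup G}

/-- some `r ∈ R₀#` fixes `N` -/
theorem false_of_faithful (FA : U2.FOne.All.FAll.{u})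
    (heK : ∀ (K : Type u) [Group K] [Finite K], Spor.IsoHe K → NodeHeG.HF K) (P : Pgl G) (h : MinCex G) (S : NSt x y R₀ J M N Lr)
    (hR : ∀ r ∈ R₀, r ≠ 1 → ¬ Fixes r N) (hlt : Nat.card ↥N < Nat.card ↥(Fs G)) : False := by
  have hK := S.kcfg P hR
  have hP3 := LieHe.p3 (Lift.liftBad.{u}) G P x y M N S.comp S.invx S.xM S.xN (S.JN S.yJ) S.yx S.y_ne
  rcases S.inU P h hR hlt with h1 | ⟨n, hn, h7, h1⟩ | h1 | h1
  · by_cases h2 : IsL2 (Bar N)
    · exact hK.not_L2 h2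
    · obtain ⟨q, hq, -⟩ := FA (Bar N) (S.simple P hR) h1 h2 (fun h3 => S.not_ree P hR h3)
      exact hP3.2 (S.center_eq P hR) q hq
  · by_cases h13 : 13 ≤ n
    · exact alt13 P S.comp S.invx S.xN (S.JN S.yJ) S.yx S.y_ne h13 h1
    · obtain ⟨k, rfl⟩ := hn
      exact KAlt.kalt hK h7 (by omega) h1
  · exact hK.not_L34 h1
  · exact hP3.1 (heK (Bar N) h1)

/-- `N < F*(G)` -/
theorem card_lt (h : MinCex G) (hMW : M ≤ normalizer (W : Set G)) (hWM : W ≤ M)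
    (hW : Odd (Nat.card ↥W)) (hW1 : W ≠ ⊥) (hN : IsComp M N) : Nat.card ↥N < Nat.card ↥(Fs G) := by
  have hle := U2.World.le_fs h hN
  refine lt_of_le_of_ne (Subgroup.card_le_of_le hle) fun he => ?_
  have h1 : N = Fs G := Subgroup.eq_of_le_of_card_ge hle he.ge
  have hXn : (Fs G).Normal := Trich.normal_fs
  have hs := h.simple
  have h2 : W ⊓ Fs G = ⊥ := by
    have h3 : ((W ⊓ Fs G).subgroupOf (Fs G)).Normal := by
      apply normal_subgroupOf_of_le_normalizer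
      intro g hg
      have e1 : g ∈ normalizer (W : Set G) := hMW (hN.le (h1 ▸ hg))
      have e2 : g ∈ normalizer (Fs G : Set G) := le_normalizer hg
      rw [mem_normalizer_iff_cj] at e1 e2 ⊢
      rw [cj_inf, e1, e2]
    rcases h3.eq_bot_or_eq_top with h4 | h4
    · rw [subgroupOf_eq_bot, disjoint_iff, inf_assoc, inf_idem] at h4
      exact h4
    · exfalso
      rw [subgroupOf_eq_top, ← h1] at h4
      exact hN.not_odd hW (h4.trans inf_le_left)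
  apply hW1
  have h3 : W ≤ centralizer (Fs G : Set G) := by
    intro w hw
    rw [mem_centralizer_iff]
    intro f hf
    have h5 : w * f * w⁻¹ * f⁻¹ ∈ W := by
      have e1 : f ∈ normalizer (W : Set G) := hMW (hN.le (h1 ▸ hf))
      have h4 := mul_mem hw (Cfsg.Agent.McLLyComp.Act.conj_mem e1 (inv_mem hw))
      convert h4 using 1
      group
    have h6 : w * f * w⁻¹ * f⁻¹ ∈ W ⊓ Fs G :=
      Subgroup.mem_inf.mpr ⟨h5, mul_mem (hXn.conj_mem _ hf w) (inv_mem hf)⟩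
    rw [h2, mem_bot, mul_inv_eq_one, mul_inv_eq_iff_eq_mul] at h6
    exact h6.symm
  rw [Trich.centralizer_fs h] at h3
  exact le_bot_iff.mp h3

/-- **Step 1** -/
theorem comm (FA : U2.FOne.All.FAll.{u})
    (heK : ∀ (K : Type u) [Group K] [Finite K], Spor.IsoHe K → NodeHeG.HF K) (P : Pgl G) (h : MinCex G) (S : NSt x y R₀ J M N Lr)
    (hMW : M ≤ normalizer (W : Set G)) (hWM : W ≤ M) (hW : Odd (Nat.card ↥W)) (hW1 : W ≠ ⊥)
    (ck : ∀ r ∈ R₀, r ≠ 1 → ∀ w ∈ core (centralizer ({r} : Set G)), ∀ j ∈ J, ⁅j, w⁆ ∈ W) :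
    ∀ m ∈ M, cj m (J ⊔ W) = J ⊔ W ∨ ⁅J ⊔ W, cj m (J ⊔ W)⁆ ≤ W := by
  by_cases hR : ∀ r ∈ R₀, r ≠ 1 → ¬ Fixes r N
  · exact (S.false_of_faithful FA heK P h hR (card_lt h hMW hWM hW hW1 S.comp)).elim
  · push Not at hR
    obtain ⟨r, hr, h1, hf⟩ := hR
    exact S.comm_of_fixes hMW hWM hW ck hr h1 hf

end NSt

end Cfsg.Agent.UGT.Res.W1
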