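import Cfsg.Agent.UGT.Res.W1.Star

/-!
# Step 1, the case that some `r ∈ R₀#` fixes `N`

`NSt.comm_of_fixes`: if `r ∈ R₀#` fixes `N` then `H^m = H` or `[H, H^m] ≤ W` for `m ∈ M`, `H = J W`.
-/

set_option autoImplicit false
set_option linter.unusedSectionVars false

open Cfsg Subgroup
open Cfsg.Agent.SignalizersComponents Cfsg.Agent.Lib
open Cfsg.Agent.SignalizersComponents.IntrinsicBasic
open Cfsg.Agent.SignalizersComponents.PLayerAut
open Cfsg.Agent.Intrinsic.Basic Cfsg.Agent.Intrinsic.Cen Cfsg.Agent.Intrinsic.Diag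
open Cfsg.Agent.McLLyComp.Act
open Cfsg.Agent.UGT.Triple Cfsg.Agent.UGT.LemG Cfsg.Agent.UGT.PumpGen Cfsg.Agent.UGT.TriBase Cfsg.Agent.UGT.Iface
open Cfsg.Agent.UGT.A9.Marker
open Cfsg.Agent.UGT.Res.Base Cfsg.Agent.UGT.Res.Abel Cfsg.Agent.UGT.Res.CoreFree Cfsg.Agent.UGT.Res.KFacts
open scoped commutatorElement

namespace Cfsg.Agent.UGT.Res.W1

section tools

variable {G : Type*} [Group G] [Finite G]

/-- an element with an odd power in `H` and of 2-power order is in `H` -/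
theorem mem_of_pow_odd {H : Subgroup G} {u : G} {k n : ℕ} (hk : Odd k) (h1 : u ^ k ∈ H) (h2 : u ^ 2 ^ n = 1) :
    u ∈ H :=
  BalanceAux.mem_of_pow_mem_of_coprime (m := k) (n := 2 ^ n)
    ((Nat.coprime_two_right.mpr hk).pow_right n) h1 (h2 ▸ one_mem _)

/-- `H` normalized by `O`: powers of `h o` -/
theorem mul_pow_mem {H O : Subgroup G} (hO : O ≤ normalizer (H : Set G)) {h o : G} (hh : h ∈ H) (ho : o ∈ O)
    (n : ℕ) : ∃ h' ∈ H, (h * o) ^ n = h' * o ^ n := by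
  induction n with
  | zero => exact ⟨1, one_mem _, by simp⟩
  | succ n ih =>
    obtain ⟨h', hh', e⟩ := ih
    refine ⟨h' * (o ^ n * h * (o ^ n)⁻¹), mul_mem hh'
      (Cfsg.Agent.McLLyComp.Act.conj_mem (hO (pow_mem ho n)) hh), ?_⟩
    rw [pow_succ, e, pow_succ]
    group

/-- a 2-element of `H O`, `O` of odd order normalizing `H`, is in `H` -/
theorem two_mem {H O : Subgroup G} (hO : O ≤ normalizer (H : Set G)) (hodd : Odd (Nat.card ↥O)) {u : G}
    (hu : u ∈ H ⊔ O) {n : ℕ} (h2 : u ^ 2 ^ n = 1) : u ∈ H := by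
  obtain ⟨h, hh, o, ho, rfl⟩ := (CoprimeBasic.mem_sup_iff hO u).mp hu
  obtain ⟨h', hh', e⟩ := mul_pow_mem hO hh ho (Nat.card ↥O)
  have ho1 : o ^ Nat.card ↥O = 1 := by
    have := pow_card_eq_one' (x := (⟨o, ho⟩ : ↥O))
    exact congrArg Subtype.val this
  refine mem_of_pow_odd hodd (?_ : _ ∈ H) h2
  rw [e, ho1, mul_one]
  exact hh'

/-- `c ∈ O` commuting with the 2-element `j` modulo `W`, `c j` a conjugate of `j`: `c ∈ W` -/
theorem mem_of_conj {W O J : Subgroup G} (hodd : Odd (Nat.card ↥O)) (hcW : O ≤ normalizer (W : Set G))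
    (hJO : ∀ j ∈ J, ∀ o ∈ O, ⁅j, o⁆ ∈ W) {c j k : G} (hc : c ∈ O) (hj : j ∈ J)
    (he : k * j * k⁻¹ = c * j) {n : ℕ} (h2 : j ^ 2 ^ n = 1) : c ∈ W := by
  have key : ∀ m : ℕ, ∃ w ∈ W, (c * j) ^ m = w * c ^ m * j ^ m := by
    intro m
    induction m with
    | zero => exact ⟨1, one_mem _, by simp⟩
    | succ m ih =>
      obtain ⟨w, hw, e⟩ := ih
      obtain ⟨w', hw'⟩ : ∃ w', w' = ⁅j ^ m, c⁆ := ⟨_, rfl⟩
      have hw'W : w' ∈ W := hw' ▸ hJO _ (pow_mem hj m) _ hc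
      have hjc : j ^ m * c = w' * c * j ^ m := by
        rw [hw', commutatorElement_def]; group
      refine ⟨w * (c ^ m * w' * (c ^ m)⁻¹), mul_mem hw
        (Cfsg.Agent.McLLyComp.Act.conj_mem (hcW (pow_mem hc m)) hw'W), ?_⟩
      calc (c * j) ^ (m + 1) = (w * c ^ m * j ^ m) * (c * j) := by rw [pow_succ, e]
        _ = w * c ^ m * (j ^ m * c) * j := by group
        _ = w * c ^ m * (w' * c * j ^ m) * j := by rw [hjc]
        _ = _ := by rw [pow_succ, pow_succ]; group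
  obtain ⟨w, hw, e⟩ := key (2 ^ n)
  have h3 : (c * j) ^ 2 ^ n = 1 := by
    rw [← he, conj_pow, h2, mul_one, mul_inv_cancel]
  rw [h3, h2, mul_one] at e
  have h4 : c ^ 2 ^ n ∈ W := by
    have : c ^ 2 ^ n = w⁻¹ := (inv_eq_of_mul_eq_one_right e.symm).symm
    rw [this]
    exact inv_mem hw
  have h5 : c ^ Nat.card ↥O = 1 := by
    have := pow_card_eq_one' (x := (⟨c, hc⟩ : ↥O))
    exact congrArg Subtype.val this
  exact BalanceAux.mem_of_pow_mem_of_coprime (m := 2 ^ n) (n := Nat.card ↥O)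
    ((Nat.coprime_two_left.mpr hodd).pow_left n) h4 (h5 ▸ one_mem _)

/-- the elements of `N(W)` commuting with `A` modulo `W` -/
def cw (W A : Subgroup G) : Subgroup G where
  carrier := {g | g ∈ normalizer (W : Set G) ∧ ∀ a ∈ A, ⁅g, a⁆ ∈ W}
  one_mem' := ⟨one_mem _, fun a _ => by rw [commutatorElement_one_left]; exact one_mem _⟩
  mul_mem' := by
    rintro g h ⟨h1, h2⟩ ⟨h3, h4⟩
    refine ⟨mul_mem h1 h3, fun a ha => ?_⟩
    have e : ⁅g * h, a⁆ = g * ⁅h, a⁆ * g⁻¹ * ⁅g, a⁆ := by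
      rw [commutatorElement_def, commutatorElement_def, commutatorElement_def]; group
    rw [e]
    exact mul_mem (Cfsg.Agent.McLLyComp.Act.conj_mem h1 (h4 a ha)) (h2 a ha)
  inv_mem' := by
    rintro g ⟨h1, h2⟩
    refine ⟨inv_mem h1, fun a ha => ?_⟩
    have e : ⁅g⁻¹, a⁆ = g⁻¹ * ⁅g, a⁆⁻¹ * g⁻¹⁻¹ := by
      rw [commutatorElement_def, commutatorElement_def]; group
    rw [e]
    exact Cfsg.Agent.McLLyComp.Act.conj_mem (inv_mem h1) (inv_mem (h2 a ha))

omit [Finite G] in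
theorem mem_cw {W A : Subgroup G} {g : G} : g ∈ cw W A ↔ g ∈ normalizer (W : Set G) ∧ ∀ a ∈ A, ⁅g, a⁆ ∈ W :=
  Iff.rfl

omit [Finite G] in
theorem comm_symm {W : Subgroup G} {a b : G} (h : ⁅a, b⁆ ∈ W) : ⁅b, a⁆ ∈ W := by
  rw [← commutatorElement_inv]
  exact inv_mem h

omit [Finite G] in
theorem le_cw_self {W A : Subgroup G} (hA : A ≤ normalizer (W : Set G)) : W ≤ cw W A := by
  intro w hw
  refine ⟨le_normalizer hw, fun a ha => ?_⟩
  have e : ⁅w, a⁆ = w * (a * w⁻¹ * a⁻¹) := by rw [commutatorElement_def]; group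
  rw [e]
  exact mul_mem hw (Cfsg.Agent.McLLyComp.Act.conj_mem (hA ha) (inv_mem hw))

omit [Finite G] in
theorem comm_sup_le {W A B : Subgroup G} (hA : A ≤ normalizer (W : Set G)) (hB : B ≤ normalizer (W : Set G))
    (h : ∀ a ∈ A, ∀ b ∈ B, ⁅a, b⁆ ∈ W) : ⁅A ⊔ W, B ⊔ W⁆ ≤ W := by
  have h1 : A ⊔ W ≤ cw W B := sup_le (fun a ha => ⟨hA ha, h a ha⟩) (le_cw_self hB)
  have h2 : B ⊔ W ≤ cw W (A ⊔ W) := by
    refine sup_le (fun b hb => ⟨hB hb, fun a ha => comm_symm ((h1 ha).2 b hb)⟩) (le_cw_self ?_)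
    exact sup_le hA le_normalizer
  rw [Subgroup.commutator_le]
  exact fun a ha b hb => comm_symm ((h2 hb).2 a ha)

omit [Finite G] in
theorem le_normalizer_of_cj_le {H O : Subgroup G} (h : ∀ o ∈ O, cj o H ≤ H) : O ≤ normalizer (H : Set G) := by
  intro o ho
  rw [mem_normalizer_iff_cj]
  refine le_antisymm (h o ho) ?_
  have := cj_mono (g := o) (h o⁻¹ (inv_mem ho))
  rwa [cj_cj_inv] at this

end tools

namespace NSt

variable {G : Type*} [Group G] [Finite G] {x y : G} {R₀ J M N : Subgroup G} {Lr : G → Subgroup G}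

/-- `N = J O(N)` -/
theorem cover (S : NSt x y R₀ J M N Lr) {r : G} (hr : r ∈ R₀) (h1 : r ≠ 1) (hf : Fixes r N) :
    J ⊔ core N = N := by
  have hrr := S.sqR r hr
  obtain ⟨h2, h3⟩ := isComp_cen S.comp (S.RM hr) hrr hf
  rw [inf_eq_right.mpr (S.cent r hr h1)] at h2
  have hJc : J ≤ cen N r := by
    rw [← S.compJ.pElem_eq]
    refine PComponents.pElem_mono (le_inf S.JN fun j hj => mem_c (S.commJ hr hj).symm)
  have h4 : cen N r = Lr r := S.compJ.unique h2 (S.tri r hr h1).comp hJc (S.le hr h1)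
  rw [h4] at h3
  exact sup_of_core (S.sup r hr h1) h3

/-- `C_{O(M)}(r) ≤ O(C(r))` -/
theorem core_inf_le (S : NSt x y R₀ J M N Lr) {r : G} (hr : r ∈ R₀) (h1 : r ≠ 1) :
    core M ⊓ centralizer ({r} : Set G) ≤ core (centralizer ({r} : Set G)) := by
  refine le_core inf_le_right ?_ ?_
  · intro g hg
    have e1 : g ∈ normalizer (core M : Set G) := le_normalizer_core _ (S.cent r hr h1 hg)
    have e2 := le_normalizer (H := centralizer ({r} : Set G)) hg
    rw [mem_normalizer_iff_cj] at e1 e2 ⊢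
    rw [cj_inf, e1, e2]
  · exact Odd.of_dvd_nat (odd_card_core _) (card_dvd_of_le inf_le_left)

section comm

variable {W : Subgroup G}

/-- `[J, O(M)] ≤ W` -/
theorem comm_coreM (S : NSt x y R₀ J M N Lr) (hMW : M ≤ normalizer (W : Set G))
    (ck : ∀ r ∈ R₀, r ≠ 1 → ∀ w ∈ core (centralizer ({r} : Set G)), ∀ j ∈ J, ⁅j, w⁆ ∈ W) :
    ∀ j ∈ J, ∀ o ∈ core M, ⁅j, o⁆ ∈ W := by
  have hp : Fact (Nat.Prime 2) := ⟨Nat.prime_two⟩
  have h1 : core M ≤ cw W J := by
    have hE := WFun.el_of_sq S.sqR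
    have hE1 : R₀ ≠ ⊥ := by
      rintro h
      have := S.cardR
      rw [h, card_bot] at this
      omega
    have hN2 : ¬ 2 ∣ Nat.card ↥(core M) := by
      rw [← even_iff_two_dvd, Nat.not_even_iff_odd]
      exact odd_card_core M
    have hn : R₀ ≤ normalizer (core M : Set G) := fun r hr => le_normalizer_core _ (S.RM hr)
    rw [← Lib.CoprimeHyperplane.iSup_centralizer_hyperplane hE hE1 hN2 hn]
    refine iSup_le fun B => ?_
    have h2 : Nat.card ↥B.1 = 2 := by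
      have := relIndex_mul_relIndex ⊥ B.1 R₀ bot_le B.2.1
      rw [relIndex_bot_left, relIndex_bot_left, B.2.2, S.cardR] at this
      omega
    have h3 : B.1 ≠ ⊥ := by
      rintro h
      rw [h, card_bot] at h2
      omega
    obtain ⟨⟨r, hr⟩, hr1'⟩ := Subgroup.ne_bot_iff_exists_ne_one.mp h3
    have hr1 : r ≠ 1 := fun h => hr1' (Subtype.ext h)
    have hrR := B.2.1 hr
    rintro o ⟨ho, hoB⟩
    have hoc : o ∈ centralizer ({r} : Set G) := mem_c (mem_centralizer_iff.mp hoB r hr).symm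
    have h4 := S.core_inf_le hrR hr1 (Subgroup.mem_inf.mpr ⟨ho, hoc⟩)
    exact ⟨hMW (core_le M ho), fun j hj => comm_symm (ck r hrR hr1 o h4 j hj)⟩
  exact fun j hj o ho => comm_symm ((h1 ho).2 j hj)

/-- **`comm`**, if some `r ∈ R₀#` fixes `N` -/
theorem comm_of_fixes (S : NSt x y R₀ J M N Lr) (hMW : M ≤ normalizer (W : Set G)) (hWM : W ≤ M)
    (hW : Odd (Nat.card ↥W))
    (ck : ∀ r ∈ R₀, r ≠ 1 → ∀ w ∈ core (centralizer ({r} : Set G)), ∀ j ∈ J, ⁅j, w⁆ ∈ W) {r : G}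
    (hr : r ∈ R₀) (h1 : r ≠ 1) (hf : Fixes r N) :
    ∀ m ∈ M, cj m (J ⊔ W) = J ⊔ W ∨ ⁅J ⊔ W, cj m (J ⊔ W)⁆ ≤ W := by
  intro m hm
  have hJO := S.comm_coreM hMW ck
  have hcov := S.cover hr h1 hf
  have hWO : W ≤ core M := le_core hWM hMW hW
  have hodd := odd_card_core M
  have hJM : J ≤ M := S.JN.trans S.comp.le
  have hmW : cj m W = W := mem_normalizer_iff_cj.mp (hMW hm)
  have hcj : cj m (J ⊔ W) = cj m J ⊔ W := by
    rw [cj_def, Subgroup.map_sup, ← cj_def, ← cj_def, hmW]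
  have hOH : core M ≤ normalizer ((J ⊔ W : Subgroup G) : Set G) := by
    refine le_normalizer_of_cj_le fun o ho => ?_
    have e1 : cj o W = W := mem_normalizer_iff_cj.mp (hMW (core_le M ho))
    have e2 : cj o (J ⊔ W) = cj o J ⊔ W := by
      rw [cj_def, Subgroup.map_sup, ← cj_def, ← cj_def, e1]
    rw [e2]
    refine sup_le ?_ le_sup_right
    rintro _ ⟨j, hj, rfl⟩
    change o * j * o⁻¹ ∈ J ⊔ W
    have e3 : o * j * o⁻¹ = ⁅j, o⁆⁻¹ * j := by rw [commutatorElement_def]; group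
    rw [e3]
    exact mul_mem (mem_sup_right (inv_mem (hJO j hj o ho))) (mem_sup_left hj)
  by_cases hmN : cj m N = N
  · left
    have h2 : cj m J ≤ J ⊔ W := by
      refine (S.compJ.cj m).le_of_two fun k hk n hn => ?_
      refine two_mem hOH hodd ?_ hn
      have h3 : k ∈ N := hmN ▸ cj_mono S.JN hk
      rw [← hcov] at h3
      exact (sup_le_sup le_sup_left S.comp.core_le_core) h3
    have h3 : cj m (J ⊔ W) ≤ J ⊔ W := by
      rw [hcj]
      exact sup_le h2 le_sup_right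
    exact Subgroup.eq_of_le_of_card_ge h3 (by rw [card_cj])
  · right
    rw [hcj]
    have hJ'M : cj m J ≤ M := by
      have := cj_mono (g := m) hJM
      rwa [mem_normalizer_iff_cj.mp (le_normalizer hm)] at this
    refine comm_sup_le (hJM.trans hMW) (hJ'M.trans hMW) ?_
    have hcN := isComp_cj_of_mem S.comp hm
    have h2 : ∀ k ∈ cj m J, ∀ j ∈ J, ⁅k, j⁆ ∈ core M := by
      intro k hk j hj
      exact hcN.core_le_core (hcN.comm_le_core S.comp hmN
        (commutator_mem_commutator (cj_mono S.JN hk) (S.JN hj))).1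
    have h3 : J ≤ cw W (cj m J) := by
      refine S.compJ.le_of_two fun j hj n hn => ?_
      refine ⟨hMW (hJM hj), fun k hk => comm_symm ?_⟩
      refine mem_of_conj hodd ((core_le M).trans hMW) hJO (h2 k hk j hj) hj ?_ hn (k := k)
      rw [commutatorElement_def]
      group
    exact fun j hj k hk => (h3 hj).2 k hk

end comm

end NSt

end Cfsg.Agent.UGT.Res.W1
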