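import Cfsg.Agent.UGT.Res.WFun
import Cfsg.Agent.UGT.Res.KFacts

/-!
# Step 1 of the world `W ≠ 1`: literal interface

`M = N(W)` is a proper subgroup containing `C(r)`, `r ∈ R₀#`, and `N` is the 2-component of `M` containing `J`.

* `NSt`: the situation in `M`.
* `KCfg`: what it gives in `N / O(N)` (simple) if `R₀` is faithful on it.
* `PR1`, `Alt13`, `LiftBad`: statements to be proved.
-/

set_option autoImplicit false

open Cfsg Subgroup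
open Cfsg.Agent.SignalizersComponents Cfsg.Agent.Lib
open Cfsg.Agent.SignalizersComponents.IntrinsicBasic
open Cfsg.Agent.Intrinsic.Basic Cfsg.Agent.Intrinsic.Cen Cfsg.Agent.Intrinsic.Diag
open Cfsg.Agent.McLLyComp.Act
open Cfsg.Agent.UGT.Triple Cfsg.Agent.UGT.Iface
open Cfsg.Agent.UGT.Res.KFacts
open scoped commutatorElement

namespace Cfsg.Agent.UGT.Res.W1

universe u

/-- The situation of Step 1. -/
structure NSt {G : Type*} [Group G] (x y : G) (R₀ J M N : Subgroup G) (Lr : G → Subgroup G) : Prop where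
  cardR : Nat.card ↥R₀ = 4
  sqR : ∀ r ∈ R₀, r * r = 1
  xM : x ∈ M
  xR : ∀ r ∈ R₀, x * r = r * x
  cent : ∀ r ∈ R₀, r ≠ 1 → centralizer ({r} : Set G) ≤ M
  comp : IsComp M N
  JN : J ≤ N
  compJ : IsComp (centralizer (R₀ : Set G)) J
  tri : ∀ r ∈ R₀, r ≠ 1 → IsTriple x r (Lr r)
  sup : ∀ r ∈ R₀, r ≠ 1 → J ⊔ core (Lr r) = Lr r
  xJ : x ∈ normalizer (J : Set G)
  yJ : y ∈ J
  yf : ∀ f ∈ R₀, y ∈ core (centralizer ({x * f} : Set G))
  ymv : ¬ Fixes y J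

/-- The configuration in `Λ = N / O(N)`: `α`, `R` are the images of `x`, `R₀`. -/
structure KCfg {Λ : Type*} [Group Λ] (α : MulAut Λ) (R : Subgroup (MulAut Λ)) (J : Subgroup Λ) (y : Λ) : Prop where
  sq : α * α = 1
  cardR : Nat.card ↥R = 4
  sqR : ∀ ρ ∈ R, ρ * ρ = 1
  comm : ∀ ρ ∈ R, α * ρ = ρ * α
  nin : α ∉ R
  perf : ⁅J, J⁆ = J
  fixJ : ∀ ρ ∈ R, ∀ j ∈ J, ρ j = j
  αJ : ∀ j ∈ J, α j ∈ J
  yJ : y ∈ J
  y1 : y ≠ 1
  yodd : Odd (orderOf y)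
  /-- `y ∈ O(C(αρ))` for all `ρ ∈ R` -/
  unb : ∀ ρ ∈ R, ∃ D : Subgroup (MulAut Λ), Odd (Nat.card ↥D) ∧ MulAut.conj y ∈ D ∧
    (∀ δ ∈ D, δ * (α * ρ) = α * ρ * δ) ∧
    ∀ k : Λ, (α * ρ) k = k → ∀ δ ∈ D, MulAut.conj k * δ * (MulAut.conj k)⁻¹ ∈ D

/-- **(PR1)** -/
def PR1 : Prop := ∀ (G : Type u) [Group G] [Finite G], Pgl G → ∀ (x z d : G) (H : Subgroup G),
  orderOf x = 2 → orderOf z = 2 → z * x = x * z → d ∈ core (centralizer ({x} : Set G)) → d * z = z * d →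
  H ≤ centralizer ({z} : Set G) → d ∈ normalizer (H : Set G) → H ≤ ⁅H, zpowers d⁆ → z ∉ H

/-- **(LIFT)** a bad involution of `N / O(N)`, `N` a 2-component of an arbitrary subgroup `M`. -/
def LiftBad : Prop := ∀ (G : Type u) [Group G] [Finite G], Pgl G → ∀ (x d : G) (M N : Subgroup G),
  IsComp M N → orderOf x = 2 → x ∈ M → d ∈ core (centralizer ({x} : Set G)) → d ∈ M →
  ∀ (hx : x ∈ normalizer (N : Set G)) (hd : d ∈ normalizer (N : Set G)) (z : Bar N) (H : Subgroup (Bar N)),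
    z * z = 1 → z ≠ 1 → act N ⟨x, hx⟩ z = z → act N ⟨d, hd⟩ z = z → H ≤ centralizer ({z} : Set (Bar N)) →
    PComponents.pElem 2 H = H → z ∈ H → (∀ h ∈ H, act N ⟨d, hd⟩ h ∈ H) →
    H ≤ closure {k | ∃ h ∈ H, k = act N ⟨d, hd⟩ h * h⁻¹} → False

end Cfsg.Agent.UGT.Res.W1
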